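import Cfsg.Agent.H419.EP.Targets_m3
import Cfsg.Agent.H528.EP.UB3_m3
import Cfsg.Agent.S2061
import Cfsg.Agent.S0813
import Cfsg.Agent.S0815
import Cfsg.Agent.S0242
import Cfsg.Agent.S0243
import Cfsg.Agent.S0265
import Cfsg.Agent.S0280
import Cfsg.Agent.MTwelveType.SylowModel
import Cfsg.Agent.StandardComponent.AltAut
import Cfsg.Agent.ClassicalGeometry.PSL2Basic
import Cfsg.Agent.S0249
import Cfsg.Agent.H417.EP.ASix
import Mathlib.GroupTheory.SpecificGroups.Alternating.Simple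
import Mathlib.GroupTheory.Perm.Fin
import Mathlib.GroupTheory.Perm.ConjAct
import Mathlib.GroupTheory.Perm.Cycle.Type
import Mathlib.Tactic
import Cfsg.Agent.Lib.FastPerm
import Cfsg.Agent.H824.ProdLem
import Cfsg.Agent.BpAlt.Row
import Cfsg.Agent.H582.Act
import Cfsg.Agent.FastGrp
import Cfsg.Agent.Prune
set_option linter.all false

section
prune_inst 0x7f00000000000000000000000000000000000000000000000000000000000000000000000000000000000000000000000000000000000000000000000000000000000000000000000000000000000000003fffffffffffffffffffffffffffbeffbdffffffff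

-- part: H957/EP/RowSix
section
set_option linter.all false
open scoped Cfsg.Agent.FastGrp

/-!
# S3499, task 5970 (helper957): the residual class of `SL_6(q)`

`row_of` : the row of `SL_6(F)` from the list S5800 (as a hypothesis), index bounds for `L₂(11)`, `A₇`, `L₃(4)`, `M₁₂`,
`U₄(3)` and the own characteristic case `L₃(F)`.
-/

set_option autoImplicit false

namespace Cfsg.Agent.H957.EP

open Subgroup Cfsg.Agent.H284 Cfsg.Agent.H419.EP
open scoped MatrixGroups

/-! ### orders of automorphism groups -/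

theorem card_aut_l2_11 :
    Nat.card (MulAut (Matrix.ProjectiveSpecialLinearGroup (Fin 2) (ZMod 11))) = 1320 := by
  have h11 : Fact (Nat.Prime 11) := ⟨by norm_num⟩
  rw [S0813.result 11 1 le_rfl (by rw [ZMod.card, pow_one]) 2 le_rfl (fun _ => by norm_num), if_pos rfl, one_mul,
    one_mul, ClassicalGeometry.PSL2Basic.card_PGL2, ZMod.card]
  norm_num

theorem card_aut_a7 : Nat.card (MulAut (alternatingGroup (Fin 7))) ≤ 5040 := by
  obtain ⟨ψ, hψ⟩ := StandardComponent.AltAut.exists_autHom 7 le_rfl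
  have hinj : Function.Injective ψ := by
    intro a b hab
    ext x : 1
    apply Subtype.ext
    rw [hψ, hψ, hab]
  have h1 := Nat.card_le_card_of_injective ψ hinj
  have h2 : Nat.card (Equiv.Perm (Fin 7)) = 5040 := by
    rw [Nat.card_perm, Nat.card_eq_fintype_card, Fintype.card_fin]
    rfl
  rwa [h2] at h1

theorem card_aut_l3_4 {K : Type*} [Field K] [Fintype K] (hK : Fintype.card K = 4) :
    Nat.card (MulAut (Matrix.ProjectiveSpecialLinearGroup (Fin 3) K)) = 241920 := by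
  have h2 : Fact (Nat.Prime 2) := ⟨Nat.prime_two⟩
  rw [S0813.result (F := K) 2 2 (by norm_num) (by rw [hK]; norm_num) 3 (by norm_num) (by norm_num), S0265.result]
  have h := S0242.result (F := K) hK 3 (by norm_num)
  rw [Fin.prod_univ_three] at h
  norm_num at h
  norm_num
  omega

theorem card_aut_m12 {X : Type*} [Group X] (h : Cfsg.Spor.IsoM12 X) : Nat.card (MulAut X) ≤ 190080 := by
  obtain ⟨e⟩ := h
  rw [Nat.card_congr (MulAut.congr e).toEquiv]
  have h2 : Nat.card (Cfsg.Out Cfsg.Spor.M12) * Nat.card (Cfsg.Inn Cfsg.Spor.M12) = Nat.card (MulAut Cfsg.Spor.M12) :=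
    (Subgroup.card_eq_card_quotient_mul_card_subgroup _).symm
  have h3 : Nat.card (Cfsg.Inn Cfsg.Spor.M12) ≤ 95040 := by
    rw [← MTwelveType.SylowModel.card_M12]
    have hf : Finite Cfsg.Spor.M12 := inferInstance
    exact Nat.card_le_card_of_surjective _ (MulAut.conj : Cfsg.Spor.M12 →* MulAut Cfsg.Spor.M12).rangeRestrict_surjective
  rw [← h2, S2061.result]
  omega

theorem card_aut_u4_3 {K : Type*} [Field K] [Fintype K] (hK : Fintype.card K = 9) :
    Nat.card (MulAut (Cfsg.PSU 4 K 3)) = 26127360 := by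
  have h3 : Fact (Nat.Prime 3) := ⟨Nat.prime_three⟩
  rw [S0815.result (F := K) 3 1 le_rfl (q := 3) rfl (by rw [hK]; norm_num) 4 (by norm_num) (by norm_num)]
  have h := S0280.result (F := K) (q := 3) (by rw [hK]; norm_num) 4 (by norm_num)
  simp only [Finset.prod_range_succ, Finset.prod_range_zero] at h
  norm_num [Nat.even_iff] at h
  norm_num
  omega

/-! ### the order of `Q` -/

/-- two models of the same matrix group have the same order -/
theorem model_card {Q Q' : Type*} [Group Q] [Group Q'] {ι : Type} [Fintype ι] [DecidableEq ι] {F : Type*} [Field F]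
    {S : Subgroup (GL ι F)} (m : Model Q S) (m' : Model Q' S) : Nat.card Q = Nat.card Q' := by
  have hk : m.π.ker = m'.π.ker := by
    ext s
    rw [MonoidHom.mem_ker, MonoidHom.mem_ker, m.ker, m'.ker]
  have h1 := Subgroup.index_ker m.π
  have h2 := Subgroup.index_ker m'.π
  rw [MonoidHom.range_eq_top.2 m.surj, Subgroup.card_top] at h1
  rw [MonoidHom.range_eq_top.2 m'.surj, Subgroup.card_top] at h2
  rw [← h1, ← h2, hk]

/-- lower bound for `|PSL_n(q)|` -/
theorem psl_card_lower {F : Type*} [Field F] [Fintype F] {n : ℕ} (hn : 2 ≤ n) :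
    Fintype.card F ^ (n * (n - 1)) * (Fintype.card F - 1) ^ (n - 1) ≤
      n * Nat.card (Matrix.ProjectiveSpecialLinearGroup (Fin n) F) := by
  have hq : 2 ≤ Fintype.card F := Fintype.one_lt_card
  set q := Fintype.card F with hqd
  have h := S0243.result (F := F) (q := q) rfl n hn
  have h1 : (q ^ (n - 1) * (q - 1)) ^ n ≤ ∏ i : Fin n, (q ^ n - q ^ (i : ℕ)) := by
    rw [← Fin.prod_const]
    refine Finset.prod_le_prod' fun i _ => ?_
    have e : q ^ (n - 1) * (q - 1) = q ^ n - q ^ (n - 1) := by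
      rw [Nat.mul_sub, mul_one, ← pow_succ, Nat.sub_add_cancel (by omega)]
    rw [e]
    apply Nat.sub_le_sub_left
    exact Nat.pow_le_pow_right (by omega) (by have := i.2; omega)
  rw [← h] at h1
  have h2 : Nat.gcd n (q - 1) * ((q - 1) * Nat.card (Matrix.ProjectiveSpecialLinearGroup (Fin n) F)) ≤
      (q - 1) * (n * Nat.card (Matrix.ProjectiveSpecialLinearGroup (Fin n) F)) := by
    have h3 : Nat.gcd n (q - 1) ≤ n := Nat.gcd_le_left _ (by omega)
    calc _ ≤ n * ((q - 1) * Nat.card (Matrix.ProjectiveSpecialLinearGroup (Fin n) F)) := Nat.mul_le_mul_right _ h3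
      _ = _ := by ring
  have h4 := h1.trans h2
  have e2 : (q ^ (n - 1) * (q - 1)) ^ n = (q - 1) * (q ^ (n * (n - 1)) * (q - 1) ^ (n - 1)) := by
    rw [mul_pow, ← pow_mul, mul_comm (n - 1) n]
    conv_lhs => rw [← Nat.sub_add_cancel (show 1 ≤ n by omega)]
    rw [Nat.sub_add_cancel (show 1 ≤ n by omega), ← Nat.sub_add_cancel (show 1 ≤ n by omega), pow_succ (q - 1)]
    simp only [Nat.add_sub_cancel]
    ring
  rw [e2] at h4
  exact Nat.le_of_mul_le_mul_left h4 (by omega)

/-- index bound + socle: bound for `|Q|` -/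
theorem card_le_of_soc {Q : Type*} [Group Q] [Finite Q] {A : Subgroup Q} {L : Type*} [Group L] [Finite L]
    (hs : HasSoc A L) {B C : ℕ} (hB : A.index ≤ B) (hC : Nat.card (MulAut L) ≤ C) : Nat.card Q ≤ C * B := by
  rw [← A.card_mul_index]
  exact Nat.mul_le_mul ((HasSoc.card_le hs).trans hC) hB

/-- the list of S5800 for `H` -/
def List5800 {F : Type} [Field F] [Fintype F] (H : Subgroup (GL (Fin 6) F)) : Prop :=
    ∃ (P : Subgroup (Matrix.GeneralLinearGroup (Fin 6) F)) (p : ℕ), Cfsg.Geo.IsResidualCore H P ∧ p.Prime ∧ CharP F p ∧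
    ((Nonempty ((P ⧸ (Cfsg.Geo.scalars (Fin 6) F).subgroupOf P) ≃* Matrix.ProjectiveSpecialLinearGroup (Fin 2) (ZMod 11)) ∧ Fintype.card F = p ∧ p ≠ 3 ∧ (p % 11 = 1 ∨ p % 11 = 3 ∨ p % 11 = 4 ∨ p % 11 = 5 ∨ p % 11 = 9)) ∨
     (Nonempty ((P ⧸ (Cfsg.Geo.scalars (Fin 6) F).subgroupOf P) ≃* alternatingGroup (Fin 7)) ∧ ((Fintype.card F = p ∧ (p % 24 = 1 ∨ p % 24 = 7)) ∨ (Fintype.card F = p ^ 2 ∧ (p % 24 = 5 ∨ p % 24 = 11 ∨ p % 24 = 13 ∨ p % 24 = 19)))) ∨
     ((∃ (K : Type) (_ : Field K) (_ : Fintype K), Fintype.card K = 4 ∧ Nonempty ((P ⧸ (Cfsg.Geo.scalars (Fin 6) F).subgroupOf P) ≃* Matrix.ProjectiveSpecialLinearGroup (Fin 3) K)) ∧ Fintype.card F = p ∧ (p % 24 = 1 ∨ p % 24 = 19)) ∨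
     (Cfsg.Spor.IsoM12 (P ⧸ (Cfsg.Geo.scalars (Fin 6) F).subgroupOf P) ∧ Fintype.card F = 3) ∨
     ((∃ (K : Type) (_ : Field K) (_ : Fintype K), Fintype.card K = 9 ∧ Nonempty ((P ⧸ (Cfsg.Geo.scalars (Fin 6) F).subgroupOf P) ≃* Cfsg.PSU 4 K 3)) ∧ Fintype.card F = p ∧ (p % 12 = 1 ∨ p % 12 = 7)) ∨
     (Nonempty ((P ⧸ (Cfsg.Geo.scalars (Fin 6) F).subgroupOf P) ≃* Matrix.ProjectiveSpecialLinearGroup (Fin 3) F) ∧ Odd (Fintype.card F)))

/-- `|PSL_6(q)|` is large -/
theorem card_lower {F : Type} [Field F] [Fintype F] {Q : Type} [Group Q]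
    (m : Model Q (Cfsg.Geo.specialLinear (Fin 6) F)) {q0 : ℕ} (hq : q0 ≤ Fintype.card F) :
    q0 ^ 30 * (q0 - 1) ^ 5 ≤ 6 * Nat.card Q := by
  obtain ⟨m'⟩ := Cfsg.Agent.H117.EP.model_PSL (F := F) (n := 6) (by norm_num)
  rw [model_card m m']
  refine le_trans ?_ (psl_card_lower (F := F) (n := 6) (by norm_num))
  exact Nat.mul_le_mul (Nat.pow_le_pow_left hq 30) (Nat.pow_le_pow_left (by omega) 5)

/-- `|PSL_6(3)|` -/
theorem card_three {F : Type} [Field F] [Fintype F] {Q : Type} [Group Q]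
    (m : Model Q (Cfsg.Geo.specialLinear (Fin 6) F)) (hq : Fintype.card F = 3) : Nat.card Q = 21032402889738240 := by
  obtain ⟨m'⟩ := Cfsg.Agent.H117.EP.model_PSL (F := F) (n := 6) (by norm_num)
  rw [model_card m m']
  have h := S0243.result (F := F) hq 6 (by norm_num)
  rw [Fin.prod_univ_six, show Nat.gcd 6 (3 - 1) = 2 by decide] at h
  norm_num at h
  omega

/-- **The row of `SL_6(F)`** from the list and the index bounds. -/
theorem row_of {Q : Type} [Group Q] [Finite Q] {A : Subgroup Q} {F : Type} [Field F] [Fintype F]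
    (m : Model Q (Cfsg.Geo.specialLinear (Fin 6) F)) (hl : List5800 (m.hat A))
    (h1 : HasSoc A (Matrix.ProjectiveSpecialLinearGroup (Fin 2) (ZMod 11)) → A.index ≤ 10 ^ 15)
    (h2 : HasSoc A (alternatingGroup (Fin 7)) → A.index ≤ 10 ^ 15)
    (h3 : ∀ (K : Type) [Field K] [Fintype K], Fintype.card K = 4 →
      HasSoc A (Matrix.ProjectiveSpecialLinearGroup (Fin 3) K) → A.index ≤ 10 ^ 37)
    (h4 : HasSoc A Cfsg.Spor.M12 → A.index ≤ 110000000000)
    (h5 : ∀ (K : Type) [Field K] [Fintype K], Fintype.card K = 9 → HasSoc A (Cfsg.PSU 4 K 3) → A.index ≤ 10 ^ 21)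
    (hown : Odd (Fintype.card F) → HasSoc A (Matrix.ProjectiveSpecialLinearGroup (Fin 3) F) → False) : False := by
  obtain ⟨P, p, hc, hp, -, h | h | h | h | h | h⟩ := hl
  · obtain ⟨⟨e⟩, hq, hp3, hpm⟩ := h
    have hs := (hasSoc_of_core m hc).congr e
    have hq4 : 4 ≤ Fintype.card F := by
      have := hp.two_le
      rw [hq]
      by_contra hcon
      have h6 : p = 2 := by omega
      rw [h6] at hpm
      omega
    have h6 := card_lower m hq4
    have h7 := card_le_of_soc hs (h1 hs) card_aut_l2_11.le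
    norm_num at h6 h7
    omega
  · obtain ⟨⟨e⟩, hq⟩ := h
    have hs := (hasSoc_of_core m hc).congr e
    have hq4 : 4 ≤ Fintype.card F := by
      have := hp.two_le
      rcases hq with ⟨hq, hpm⟩ | ⟨hq, hpm⟩
      · rw [hq]
        have h8 : p ≠ 2 := by rintro rfl; omega
        have h9 : p ≠ 3 := by rintro rfl; omega
        omega
      · rw [hq]; nlinarith
    have h6 := card_lower m hq4
    have h7 := card_le_of_soc hs (h2 hs) card_aut_a7
    norm_num at h6 h7
    omega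
  · obtain ⟨⟨K, _, _, hK, ⟨e⟩⟩, hq, hpm⟩ := h
    have hs := (hasSoc_of_core m hc).congr e
    have hq4 : 19 ≤ Fintype.card F := by
      have := hp.two_le
      rw [hq]
      omega
    have h6 := card_lower m hq4
    have h7 := card_le_of_soc hs (h3 K hK hs) (card_aut_l3_4 hK).le
    norm_num at h6 h7
    omega
  · obtain ⟨⟨e⟩, hq⟩ := h
    have hs := (hasSoc_of_core m hc).congr e
    have h6 := card_three m hq
    have h7 := card_le_of_soc hs (h4 hs) (card_aut_m12 ⟨MulEquiv.refl _⟩)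
    norm_num at h6 h7
    omega
  · obtain ⟨⟨K, _, _, hK, ⟨e⟩⟩, hq, hpm⟩ := h
    have hs := (hasSoc_of_core m hc).congr e
    have hq4 : 7 ≤ Fintype.card F := by
      have := hp.two_le
      rw [hq]
      omega
    have h6 := card_lower m hq4
    have h7 := card_le_of_soc hs (h5 K hK hs) (card_aut_u4_3 hK).le
    norm_num at h6 h7
    omega
  · obtain ⟨⟨e⟩, hodd⟩ := h
    exact hown hodd ((hasSoc_of_core m hc).congr e)

/-- **The row of `SL_6(F)`**; `h5800 := fun H => S5800.result H`. -/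
theorem row {Q : Type} [Group Q] [Finite Q] {A : Subgroup Q} {Γ : Subgroup (MulAut Q)} (h : EPT A Γ) {F : Type}
    [Field F] [Fintype F] (m : Model Q (Cfsg.Geo.specialLinear (Fin 6) F))
    (hres : Cfsg.Geo.InLinearResidualClass (m.hat A))
    (h5800 : ∀ H : Subgroup (GL (Fin 6) F), Cfsg.Geo.IsMaximalIn (Cfsg.Geo.specialLinear (Fin 6) F) H →
      Cfsg.Geo.InLinearResidualClass H → List5800 H)
    (h1 : HasSoc A (Matrix.ProjectiveSpecialLinearGroup (Fin 2) (ZMod 11)) → A.index ≤ 10 ^ 15)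
    (h2 : HasSoc A (alternatingGroup (Fin 7)) → A.index ≤ 10 ^ 15)
    (h3 : ∀ (K : Type) [Field K] [Fintype K], Fintype.card K = 4 →
      HasSoc A (Matrix.ProjectiveSpecialLinearGroup (Fin 3) K) → A.index ≤ 10 ^ 37)
    (h4 : HasSoc A Cfsg.Spor.M12 → A.index ≤ 110000000000)
    (h5 : ∀ (K : Type) [Field K] [Fintype K], Fintype.card K = 9 → HasSoc A (Cfsg.PSU 4 K 3) → A.index ≤ 10 ^ 21)
    (hown : Odd (Fintype.card F) → HasSoc A (Matrix.ProjectiveSpecialLinearGroup (Fin 3) F) → False) : False :=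
  row_of m (h5800 _ (m.isMaximalIn h.max) hres) h1 h2 h3 h4 h5 hown

end Cfsg.Agent.H957.EP

private theorem dce_1699a41289f5 : _root_.True := by
  try have : _root_.True := by simp only [_root_.Matrix.ProjectiveSpecialLinearGroup.congr_simp]
  exact _root_.True.intro
end

-- part: H957/EP/RowSixUB
section
set_option linter.all false
open scoped Cfsg.Agent.FastGrp

/-!
# S3499, task 5970 (helper957): the residual class of `SL_6(q)`, `L₂(11)`, `A₇`, `L₃(4)` by UB1 and UB2

`row_ub` : left over as hypotheses are the list S5800, `TwoGen` (S3948), `M₁₂`, `U₄(3)` and the own characteristic.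
General tools: `card_cases` (`|A| = |L| d`, `d ∣ |Out L|`), `index_ub` (UB1 + UB2 with the order given by its factorisation).
-/

set_option autoImplicit false

namespace Cfsg.Agent.H957.EP

open Subgroup Cfsg.Agent.H284 Cfsg.Agent.H419.EP Cfsg.Agent.H59.EP
open scoped MatrixGroups

universe u

/-- `|A| = |L| d`, `d` a divisor of `|Aut L| / |L|` -/
theorem card_cases {Q : Type*} [Group Q] {A : Subgroup Q} {L : Type*} [Group L] [Finite L] (h : HasSoc A L) {k : ℕ}
    (hk : Nat.card (MulAut L) ∣ Nat.card L * k) : ∃ d, d ∣ k ∧ Nat.card A = Nat.card L * d := by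
  obtain ⟨f, hf⟩ := h.exists_hom
  have h1 : Nat.card A ∣ Nat.card (MulAut L) := Subgroup.card_dvd_of_injective f hf
  obtain ⟨d, hd⟩ := h.card_dvd
  refine ⟨d, ?_, hd⟩
  rw [hd] at h1
  exact Nat.dvd_of_mul_dvd_mul_left Nat.card_pos (h1.trans hk)

/-- **UB1 + UB2** for `HasSoc A L`, `L` simple, the order `c = |A|` by its factorisation `l` -/
theorem index_ub {Q : Type u} [Group Q] [Finite Q] (hs : IsSimpleGroup Q) {A : Subgroup Q} {Γ : Subgroup (MulAut Q)}
    (h : EPT A Γ) (hg : TwoGen.{u}) {L : Type*} [Group L] (hS : HasSoc A L) (hL : IsSimpleGroup L)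
    (hLn : ¬ IsMulCommutative L) (l : List (ℕ × ℕ)) (c G n : ℕ) (h1 : ∀ x ∈ l, x.1.Prime ∧ 0 < x.2)
    (h2 : (l.map Prod.fst).Nodup) (h5 : ∀ x ∈ l, 5 ≤ x.1 → x.2 = 1) (hc : Nat.card A = c)
    (hcl : (l.map fun x => x.1 ^ x.2).prod = c) (hG : (l.map fun x => gal x.1 x.2).sum ≤ G)
    (hn : 1 + (G * (c / 6) + c ^ 2 / 60) * (2 * (c / 6)) ≤ n) : A.index ≤ n := by
  have hab : ∀ K : Subgroup Q, K ≤ A → (∀ a ∈ A, ∀ k ∈ K, a * k * a⁻¹ ∈ K) → (∀ a ∈ K, ∀ b ∈ K, a * b = b * a) →
      K = ⊥ := fun K hK hn hc => HasSoc.no_abelian hS hL (fun hcomm => hLn ⟨⟨hcomm⟩⟩) hK hn hc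
  have h6 := EPT.ncard_le_list h hg hab l h1 h2 h5 (hc.trans hcl.symm)
  have h7 := Cfsg.Agent.H173.EP.ub1 hs h (by norm_num) fun _ hx => EPT.six_le h hab hx
  refine index_le_of (r := G * (c / 6) + c ^ 2 / 60) ?_ h7 ?_
  · refine h6.trans ?_
    rw [hc]
    exact Nat.add_le_add_right (Nat.mul_le_mul_right _ hG) _
  · rw [hc]
    exact hn

theorem idx_660 {Q : Type u} [Group Q] [Finite Q] (hs : IsSimpleGroup Q) {A : Subgroup Q} {Γ : Subgroup (MulAut Q)}
    (h : EPT A Γ) (hg : TwoGen.{u}) {L : Type*} [Group L] [Finite L] (hS : HasSoc A L) (hL : IsSimpleGroup L)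
    (hLn : ¬ IsMulCommutative L) (h0 : Nat.card L = 660) (h1 : Nat.card (MulAut L) ∣ 1320) : A.index ≤ 10 ^ 15 := by
  obtain ⟨d, hd, hc⟩ := card_cases hS (k := 2) (by rw [h0]; exact h1)
  rw [h0] at hc
  rcases (Nat.dvd_prime Nat.prime_two).1 hd with rfl | rfl
  · exact index_ub hs h hg hS hL hLn [(2, 2), (3, 1), (5, 1), (11, 1)] 660 1000 _ (by simp; norm_num) (by decide) (by simp)
      hc (by norm_num) (by decide +kernel) (by norm_num)
  · exact index_ub hs h hg hS hL hLn [(2, 3), (3, 1), (5, 1), (11, 1)] 1320 1000 _ (by simp; norm_num) (by decide) (by simp)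
      hc (by norm_num) (by decide +kernel) (by norm_num)

theorem idx_2520 {Q : Type u} [Group Q] [Finite Q] (hs : IsSimpleGroup Q) {A : Subgroup Q} {Γ : Subgroup (MulAut Q)}
    (h : EPT A Γ) (hg : TwoGen.{u}) {L : Type*} [Group L] [Finite L] (hS : HasSoc A L) (hL : IsSimpleGroup L)
    (hLn : ¬ IsMulCommutative L) (h0 : Nat.card L = 2520) (h1 : Nat.card (MulAut L) ∣ 5040) : A.index ≤ 10 ^ 15 := by
  obtain ⟨d, hd, hc⟩ := card_cases hS (k := 2) (by rw [h0]; exact h1)
  rw [h0] at hc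
  rcases (Nat.dvd_prime Nat.prime_two).1 hd with rfl | rfl
  · exact index_ub hs h hg hS hL hLn [(2, 3), (3, 2), (5, 1), (7, 1)] 2520 1000 _ (by simp; norm_num) (by decide) (by simp)
      hc (by norm_num) (by decide +kernel) (by norm_num)
  · exact index_ub hs h hg hS hL hLn [(2, 4), (3, 2), (5, 1), (7, 1)] 5040 1000 _ (by simp; norm_num) (by decide) (by simp)
      hc (by norm_num) (by decide +kernel) (by norm_num)

theorem idx_20160 {Q : Type u} [Group Q] [Finite Q] (hs : IsSimpleGroup Q) {A : Subgroup Q} {Γ : Subgroup (MulAut Q)}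
    (h : EPT A Γ) (hg : TwoGen.{u}) {L : Type*} [Group L] [Finite L] (hS : HasSoc A L) (hL : IsSimpleGroup L)
    (hLn : ¬ IsMulCommutative L) (h0 : Nat.card L = 20160) (h1 : Nat.card (MulAut L) ∣ 241920) : A.index ≤ 10 ^ 16 := by
  obtain ⟨d, hd, hc⟩ := card_cases hS (k := 12) (by rw [h0]; exact h1)
  rw [h0] at hc
  have hd' : d ∈ Nat.divisors 12 := Nat.mem_divisors.2 ⟨hd, by norm_num⟩
  have hdl : Nat.divisors 12 = {1, 2, 3, 4, 6, 12} := by decide
  rw [hdl] at hd'
  simp only [Finset.mem_insert, Finset.mem_singleton] at hd'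
  rcases hd' with rfl | rfl | rfl | rfl | rfl | rfl
  · exact index_ub hs h hg hS hL hLn [(2, 6), (3, 2), (5, 1), (7, 1)] 20160 500000 _ (by simp; norm_num) (by decide) (by simp)
      hc (by norm_num) (by decide +kernel) (by norm_num)
  · exact index_ub hs h hg hS hL hLn [(2, 7), (3, 2), (5, 1), (7, 1)] 40320 500000 _ (by simp; norm_num) (by decide) (by simp)
      hc (by norm_num) (by decide +kernel) (by norm_num)
  · exact index_ub hs h hg hS hL hLn [(2, 6), (3, 3), (5, 1), (7, 1)] 60480 500000 _ (by simp; norm_num) (by decide) (by simp)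
      hc (by norm_num) (by decide +kernel) (by norm_num)
  · exact index_ub hs h hg hS hL hLn [(2, 8), (3, 2), (5, 1), (7, 1)] 80640 500000 _ (by simp; norm_num) (by decide) (by simp)
      hc (by norm_num) (by decide +kernel) (by norm_num)
  · exact index_ub hs h hg hS hL hLn [(2, 7), (3, 3), (5, 1), (7, 1)] 120960 500000 _ (by simp; norm_num) (by decide) (by simp)
      hc (by norm_num) (by decide +kernel) (by norm_num)
  · exact index_ub hs h hg hS hL hLn [(2, 8), (3, 3), (5, 1), (7, 1)] 241920 500000 _ (by simp; norm_num) (by decide) (by simp)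
      hc (by norm_num) (by decide +kernel) (by norm_num)

theorem ncomm_of_not_prime {S : Type*} [Group S] [Finite S] (hS : IsSimpleGroup S) (h : ¬ (Nat.card S).Prime) :
    ¬ IsMulCommutative S := by
  intro hc
  apply h
  let _ : CommGroup S := { (inferInstance : Group S) with mul_comm := hc.is_comm.comm }
  exact IsSimpleGroup.prime_card

theorem card_l2_11 : Nat.card (Matrix.ProjectiveSpecialLinearGroup (Fin 2) (ZMod 11)) = 660 := by
  have h11 : Fact (Nat.Prime 11) := ⟨by norm_num⟩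
  have h : Nat.gcd 2 (11 - 1) * ((11 - 1) * Nat.card (Matrix.ProjectiveSpecialLinearGroup (Fin 2) (ZMod 11))) =
      ∏ i : Fin 2, (11 ^ 2 - 11 ^ (i : ℕ)) := S0243.result (F := ZMod 11) (q := 11) (ZMod.card 11) 2 (by norm_num)
  rw [Fin.prod_univ_two, show Nat.gcd 2 (11 - 1) = 2 by decide] at h
  norm_num [-Nat.card_eq_fintype_card] at h
  omega

theorem card_a7 : Nat.card (alternatingGroup (Fin 7)) = 2520 := by
  rw [nat_card_alternatingGroup, Nat.card_eq_fintype_card, Fintype.card_fin]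
  rfl

theorem card_aut_a7_dvd : Nat.card (MulAut (alternatingGroup (Fin 7))) ∣ 5040 := by
  obtain ⟨ψ, hψ⟩ := StandardComponent.AltAut.exists_autHom 7 le_rfl
  have hinj : Function.Injective ψ := by
    intro a b hab
    ext x : 1
    apply Subtype.ext
    rw [hψ, hψ, hab]
  have h1 := Subgroup.card_dvd_of_injective ψ hinj
  have h2 : Nat.card (Equiv.Perm (Fin 7)) = 5040 := by
    rw [Nat.card_perm, Nat.card_eq_fintype_card, Fintype.card_fin]
    rfl
  rwa [h2] at h1

theorem card_l3_4 {K : Type*} [Field K] [Fintype K] (hK : Fintype.card K = 4) :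
    Nat.card (Matrix.ProjectiveSpecialLinearGroup (Fin 3) K) = 20160 := by
  have h := S0243.result (F := K) hK 3 (by norm_num)
  rw [Fin.prod_univ_three] at h
  norm_num at h
  omega

/-- **The row of `SL_6(F)`**: `h5800 := fun H => S5800.result H`, `hg := H59.EP.twoGen`; `M₁₂`, `U₄(3)` and the own
characteristic are hypotheses. -/
theorem row_ub {Q : Type} [Group Q] [Finite Q] (hs : IsSimpleGroup Q) {A : Subgroup Q} {Γ : Subgroup (MulAut Q)}
    (h : EPT A Γ) {F : Type} [Field F] [Fintype F] (m : Model Q (Cfsg.Geo.specialLinear (Fin 6) F))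
    (hres : Cfsg.Geo.InLinearResidualClass (m.hat A)) (hg : TwoGen.{0})
    (h5800 : ∀ H : Subgroup (GL (Fin 6) F), Cfsg.Geo.IsMaximalIn (Cfsg.Geo.specialLinear (Fin 6) F) H →
      Cfsg.Geo.InLinearResidualClass H → List5800 H)
    (h4 : HasSoc A Cfsg.Spor.M12 → A.index ≤ 110000000000)
    (h5 : ∀ (K : Type) [Field K] [Fintype K], Fintype.card K = 9 → HasSoc A (Cfsg.PSU 4 K 3) → A.index ≤ 10 ^ 21)
    (hown : Odd (Fintype.card F) → HasSoc A (Matrix.ProjectiveSpecialLinearGroup (Fin 3) F) → False) : False := by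
  refine row h m hres h5800 (fun hS => ?_) (fun hS => ?_) (fun K _ _ hK hS => ?_) h4 h5 hown
  · have h11 : Fact (Nat.Prime 11) := ⟨by norm_num⟩
    have hL : IsSimpleGroup (Matrix.ProjectiveSpecialLinearGroup (Fin 2) (ZMod 11)) :=
      Matrix.ProjectiveSpecialLinearGroup.rank_two_simple (by rw [Nat.card_zmod]; norm_num)
    exact idx_660 hs h hg hS hL (ncomm_of_not_prime hL (by rw [card_l2_11]; norm_num)) card_l2_11
      (dvd_of_eq card_aut_l2_11)
  · have hL : IsSimpleGroup (alternatingGroup (Fin 7)) := alternatingGroup.isSimpleGroup (by simp)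
    exact idx_2520 hs h hg hS hL (ncomm_of_not_prime hL (by rw [card_a7]; norm_num)) card_a7 card_aut_a7_dvd
  · have hL : IsSimpleGroup (Matrix.ProjectiveSpecialLinearGroup (Fin 3) K) := S0249.result 3 le_rfl
    exact (idx_20160 hs h hg hS hL (ncomm_of_not_prime hL (by rw [card_l3_4 hK]; norm_num)) (card_l3_4 hK)
      (dvd_of_eq (card_aut_l3_4 hK))).trans (by norm_num)

end Cfsg.Agent.H957.EP
end

-- part: H417/EP/Base
section
set_option linter.all false
open scoped Cfsg.Agent.FastGrp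

/-!
# Extremely primitive groups: a simple socle (helper417)

`A` has the unique minimal normal subgroup `N ≃* L`, `L` simple, `Out(L)` abelian: `N` is `Γ`-invariant and has
non-trivial intersection with all two-point stabilisers.
-/

set_option autoImplicit false

namespace Cfsg.Agent.H417.EP

open Subgroup MulAction
open Cfsg.Agent.H284

variable {Q : Type*} [Group Q] {A : Subgroup Q} {Γ : Subgroup (MulAut Q)}
  {L : Type*} [Group L]

/-- the embedding of `L` -/
def emb {N : Subgroup Q} (e : N ≃* L) : L →* Q := N.subtype.comp e.symm.toMonoidHom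

theorem emb_mem {N : Subgroup Q} (e : N ≃* L) (l : L) : emb e l ∈ N := (e.symm l).2

theorem emb_inj {N : Subgroup Q} (e : N ≃* L) : Function.Injective (emb e) :=
  fun _ _ h => e.symm.injective (Subtype.ext h)

theorem exists_emb {N : Subgroup Q} (e : N ≃* L) {n : Q} (hn : n ∈ N) : ∃ l, emb e l = n := ⟨e ⟨n, hn⟩, by
  show ((e.symm (e ⟨n, hn⟩) : N) : Q) = n
  rw [MulEquiv.symm_apply_apply]⟩

/-- `N` is the unique minimal normal subgroup of `A` -/
theorem soc_le {N : Subgroup Q} (hNA : N ≤ A) (hN : ∀ a ∈ A, ∀ n ∈ N, a * n * a⁻¹ ∈ N) [IsSimpleGroup L]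
    (e : N ≃* L) (hcent : ∀ a ∈ A, (∀ n ∈ N, a * n = n * a) → a = 1) {M : Subgroup Q} (hM : M ≤ A)
    (hMn : ∀ a ∈ A, ∀ m ∈ M, a * m * a⁻¹ ∈ M) (hne : M ≠ ⊥) : N ≤ M := by
  have hK : (M.comap (emb e)).Normal := by
    constructor
    intro n hn g
    rw [mem_comap, map_mul, map_mul, map_inv]
    exact hMn _ (hNA (emb_mem e g)) _ hn
  rcases hK.eq_bot_or_eq_top with h1 | h1
  · exfalso
    apply hne
    rw [eq_bot_iff]
    intro m hm
    rw [mem_bot]
    refine hcent m (hM hm) fun n hn => ?_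
    have h2 : m * n * m⁻¹ * n⁻¹ ∈ N := N.mul_mem (hN m (hM hm) n hn) (N.inv_mem hn)
    have h3 : m * n * m⁻¹ * n⁻¹ ∈ M := by
      have : m * (n * m⁻¹ * n⁻¹) ∈ M := M.mul_mem hm (hMn n (hNA hn) _ (M.inv_mem hm))
      simpa only [mul_assoc] using this
    obtain ⟨l, hl⟩ := exists_emb e h2
    have h4 : l ∈ M.comap (emb e) := by rw [mem_comap, hl]; exact h3
    rw [h1, mem_bot] at h4
    rw [h4, map_one] at hl
    have h5 : m * n * m⁻¹ * n⁻¹ * (n * m) = n * m := by rw [← hl, one_mul]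
    have h6 : m * n * m⁻¹ * n⁻¹ * (n * m) = m * n := by group
    rw [← h6, h5]
  · intro n hn
    obtain ⟨l, rfl⟩ := exists_emb e hn
    have h2 : l ∈ M.comap (emb e) := by rw [h1]; exact mem_top l
    exact h2

theorem base_inv [Finite Q] (h : EPT A Γ) {N : Subgroup Q} (hNA : N ≤ A) (hN : ∀ a ∈ A, ∀ n ∈ N, a * n * a⁻¹ ∈ N)
    [IsSimpleGroup L] (e : N ≃* L) (hcent : ∀ a ∈ A, (∀ n ∈ N, a * n = n * a) → a = 1) : Inv A Γ (emb e) where
  inj := emb_inj e
  mem := fun l => hNA (emb_mem e l)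
  inv := by
    intro σ hσ l
    have h1 : N ≤ N.map σ.toMonoidHom := by
      refine soc_le hNA hN e hcent ?_ ?_ ?_
      · rintro _ ⟨n, hn, rfl⟩
        exact (h.inv σ hσ n).2 (hNA hn)
      · rintro a ha _ ⟨n, hn, rfl⟩
        have h2 : σ⁻¹ a ∈ A := (h.inv _ (Γ.inv_mem hσ) a).2 ha
        refine ⟨σ⁻¹ a * n * (σ⁻¹ a)⁻¹, hN _ h2 _ hn, ?_⟩
        show σ (σ⁻¹ a * n * (σ⁻¹ a)⁻¹) = a * σ n * a⁻¹
        rw [map_mul, map_mul, map_inv, MulAut.apply_inv_self]
      · intro e1
        rw [Subgroup.map_eq_bot_iff_of_injective _ σ.injective] at e1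
        obtain ⟨a, b, hab⟩ := exists_pair_ne L
        apply hab
        apply emb_inj e
        have h3 : ∀ l, emb e l = 1 := fun l => by
          have := e1.le (emb_mem e l)
          rwa [mem_bot] at this
        rw [h3, h3]
    have h2 : N.map σ.toMonoidHom = N := by
      have h3 : Nat.card (N.map σ.toMonoidHom) = Nat.card N :=
        (Nat.card_congr (N.equivMapOfInjective σ.toMonoidHom σ.injective).toEquiv).symm
      exact (Subgroup.eq_of_le_of_card_ge h1 h3.le).symm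
    have h3 : σ (emb e l) ∈ N := h2.le ⟨_, emb_mem e l, rfl⟩
    obtain ⟨l', hl'⟩ := exists_emb e h3
    exact ⟨l', hl'.symm⟩

/-- commutators of elements of `A` are in `N` if `Out(N)` is abelian -/
theorem base_comm {N : Subgroup Q} (hNA : N ≤ A) (hN : ∀ a ∈ A, ∀ n ∈ N, a * n * a⁻¹ ∈ N)
    (e : N ≃* L) (hcent : ∀ a ∈ A, (∀ n ∈ N, a * n = n * a) → a = 1)
    (hOut : ∀ α β : MulAut L, α * β * α⁻¹ * β⁻¹ ∈ (MulAut.conj : L →* MulAut L).range) {a b : Q} (ha : a ∈ A)
    (hb : b ∈ A) : a * b * a⁻¹ * b⁻¹ ∈ N := by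
  have key : ∀ a ∈ A, ∃ α : MulAut L, ∀ l, emb e (α l) = a * emb e l * a⁻¹ := by
    intro a ha
    let f : N ≃* N :=
      { toFun := fun n => ⟨a * n * a⁻¹, hN a ha n n.2⟩
        invFun := fun n => ⟨a⁻¹ * n * a, by
          have := hN _ (A.inv_mem ha) n n.2
          rwa [inv_inv] at this⟩
        left_inv := fun n => Subtype.ext (by
          show a⁻¹ * (a * (n : Q) * a⁻¹) * a = n
          group)
        right_inv := fun n => Subtype.ext (by
          show a * (a⁻¹ * (n : Q) * a) * a⁻¹ = n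
          group)
        map_mul' := fun n m => Subtype.ext (by
          show a * ((n : Q) * m) * a⁻¹ = a * n * a⁻¹ * (a * m * a⁻¹)
          group) }
    refine ⟨(e.symm.trans f).trans e, fun l => ?_⟩
    show ((e.symm (e (f (e.symm l))) : N) : Q) = a * (e.symm l : N) * a⁻¹
    rw [MulEquiv.symm_apply_apply]
    rfl
  obtain ⟨α, hα⟩ := key a ha
  obtain ⟨β, hβ⟩ := key b hb
  obtain ⟨z, hz⟩ := hOut α β
  have hαi : ∀ l, emb e (α⁻¹ l) = a⁻¹ * emb e l * a := by
    intro l
    have := hα (α⁻¹ l)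
    rw [MulAut.apply_inv_self] at this
    rw [this]
    group
  have hβi : ∀ l, emb e (β⁻¹ l) = b⁻¹ * emb e l * b := by
    intro l
    have := hβ (β⁻¹ l)
    rw [MulAut.apply_inv_self] at this
    rw [this]
    group
  have h1 : ∀ l, emb e z * emb e l * (emb e z)⁻¹ = (a * b * a⁻¹ * b⁻¹) * emb e l * (a * b * a⁻¹ * b⁻¹)⁻¹ := by
    intro l
    have h2 := DFunLike.congr_fun hz l
    rw [MulAut.conj_apply, MulAut.mul_apply, MulAut.mul_apply, MulAut.mul_apply] at h2
    have h3 := congrArg (emb e) h2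
    rw [map_mul, map_mul, map_inv, hα, hβ, hαi, hβi] at h3
    rw [h3]
    group
  have hc : a * b * a⁻¹ * b⁻¹ ∈ A := A.mul_mem (A.mul_mem (A.mul_mem ha hb) (A.inv_mem ha)) (A.inv_mem hb)
  have hzA : emb e z ∈ A := hNA (emb_mem e z)
  have h4 : (emb e z)⁻¹ * (a * b * a⁻¹ * b⁻¹) = 1 := by
    refine hcent _ (A.mul_mem (A.inv_mem hzA) hc) fun n hn => ?_
    obtain ⟨l, rfl⟩ := exists_emb e hn
    have h5 := h1 l
    have h6 : (emb e z)⁻¹ * (a * b * a⁻¹ * b⁻¹) * emb e l =
        (emb e z)⁻¹ * ((a * b * a⁻¹ * b⁻¹) * emb e l * (a * b * a⁻¹ * b⁻¹)⁻¹) * (a * b * a⁻¹ * b⁻¹) := by group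
    rw [h6, ← h5]
    group
  rw [inv_mul_eq_one] at h4
  rw [← h4]
  exact emb_mem e z

/-- the traces are not trivial -/
theorem base_tr [Finite Q] (h : EPT A Γ) {N : Subgroup Q} (hNA : N ≤ A) (hN : ∀ a ∈ A, ∀ n ∈ N, a * n * a⁻¹ ∈ N)
    [IsSimpleGroup L] (hna : ∃ a b : L, a * b ≠ b * a) (e : N ≃* L)
    (hcent : ∀ a ∈ A, (∀ n ∈ N, a * n = n * a) → a = 1)
    (hOut : ∀ α β : MulAut L, α * β * α⁻¹ * β⁻¹ ∈ (MulAut.conj : L →* MulAut L).range) {x : Q} (hx : x ∉ A) :
    tr (emb e) A x ≠ ⊥ := by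
  intro ht
  obtain ⟨K, hK, hKn, hKne, hKc⟩ := h.abM0 x hx (fun a ha b hb => by
    have h1 := base_comm hNA hN e hcent hOut ha.1 hb.1
    obtain ⟨l, hl⟩ := exists_emb e h1
    have h2 : a * b * a⁻¹ * b⁻¹ ∈ cj x A :=
      (cj x A).mul_mem ((cj x A).mul_mem ((cj x A).mul_mem ha.2 hb.2) ((cj x A).inv_mem ha.2)) ((cj x A).inv_mem hb.2)
    have h3 : l ∈ tr (emb e) A x := by rw [mem_tr, hl]; exact mem_cj.1 h2
    rw [ht, mem_bot] at h3
    rw [h3, map_one] at hl
    have h5 : a * b * a⁻¹ * b⁻¹ * (b * a) = b * a := by rw [← hl, one_mul]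
    have h6 : a * b * a⁻¹ * b⁻¹ * (b * a) = a * b := by group
    rw [← h6, h5])
  obtain ⟨a, b, hab⟩ := hna
  have h1 : N ≤ K := soc_le hNA hN e hcent hK (fun a ha m hm => by
    have := hKn _ ((h.conj a).2 ha) m hm
    rwa [MulAut.conj_apply] at this) hKne
  apply hab
  apply emb_inj e
  rw [map_mul, map_mul]
  exact hKc _ (h1 (emb_mem e a)) _ (h1 (emb_mem e b))

end Cfsg.Agent.H417.EP
end

-- part: H998/EPA/Six
section
set_option linter.all false
open scoped Cfsg.Agent.FastGrp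

-- part: H998/EPA/SixDec
section
/-!
# S3499-IV-L A6: kernel checked facts on the even permutations of six points (helper998)
-/

set_option autoImplicit false

namespace Cfsg.Agent.H998.EPA

open Equiv Finset

def c2 : Perm (Fin 6) := swap (0 : Fin 6) 1 * swap (2 : Fin 6) 3
def c3 : Perm (Fin 6) := swap (0 : Fin 6) 1 * swap (1 : Fin 6) 2
def c33 : Perm (Fin 6) := swap (0 : Fin 6) 1 * swap (1 : Fin 6) 2 * (swap (3 : Fin 6) 4 * swap (4 : Fin 6) 5)
def c5 : Perm (Fin 6) := swap (0 : Fin 6) 1 * swap (1 : Fin 6) 2 * (swap (2 : Fin 6) 3 * swap (3 : Fin 6) 4)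

theorem dec_two0 :
    (univ.filter fun v : Perm (Fin 6) => c2 * v = v * c2 ∧ Perm.sign v = 1).card = 8 ∧
    (univ.filter fun v : Perm (Fin 6) => v * v = 1 ∧ c2 * v = v * c2 ∧ v ≠ 1 ∧ Perm.sign v = 1).card = 5 := by
  set_option synthInstance.maxSize 9000 in open scoped Cfsg.Agent.Lib.FastPerm in decide +kernel

theorem dec_three0 :
    (univ.filter fun v : Perm (Fin 6) => v * v = 1 ∧ v * c3 * v = c3⁻¹ ∧ v ≠ 1 ∧ Perm.sign v = 1).card = 9 := by
  set_option synthInstance.maxSize 9000 in open scoped Cfsg.Agent.Lib.FastPerm in decide +kernel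

theorem dec_three1 :
    (univ.filter fun v : Perm (Fin 6) => v * v = 1 ∧ v * c33 * v = c33⁻¹ ∧ v ≠ 1 ∧ Perm.sign v = 1).card = 9 := by
  set_option synthInstance.maxSize 9000 in open scoped Cfsg.Agent.Lib.FastPerm in decide +kernel

theorem dec_three0c :
    (univ.filter fun v : Perm (Fin 6) => c3 * v = v * c3 ∧ Perm.sign v = 1).card = 9 := by
  set_option synthInstance.maxSize 9000 in open scoped Cfsg.Agent.Lib.FastPerm in decide +kernel

theorem dec_three1c :
    (univ.filter fun v : Perm (Fin 6) => c33 * v = v * c33 ∧ Perm.sign v = 1).card = 9 := by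
  set_option synthInstance.maxSize 9000 in open scoped Cfsg.Agent.Lib.FastPerm in decide +kernel

theorem dec_five0 :
    (univ.filter fun v : Perm (Fin 6) => c5 * v = v * c5 ∧ Perm.sign v = 1).card = 5 ∧
    (univ.filter fun v : Perm (Fin 6) => v * v = 1 ∧ v * c5 * v = c5⁻¹ ∧ v ≠ 1 ∧ Perm.sign v = 1).card = 5 := by
  set_option synthInstance.maxSize 9000 in open scoped Cfsg.Agent.Lib.FastPerm in decide +kernel

theorem dec_card2 : (univ.filter fun u : Perm (Fin 6) => (u * u = 1 ∧ u ≠ 1) ∧ Perm.sign u = 1).card = 45 := by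
  set_option synthInstance.maxSize 9000 in open scoped Cfsg.Agent.Lib.FastPerm in decide +kernel

theorem dec_card3 : (univ.filter fun u : Perm (Fin 6) => (u * u * u = 1 ∧ u ≠ 1) ∧ Perm.sign u = 1).card = 80 := by
  set_option synthInstance.maxSize 9000 in open scoped Cfsg.Agent.Lib.FastPerm in decide +kernel

theorem dec_card5 : (univ.filter fun u : Perm (Fin 6) => (u * u * u * u * u = 1 ∧ u ≠ 1) ∧ Perm.sign u = 1).card = 144 := by
  set_option synthInstance.maxSize 9000 in open scoped Cfsg.Agent.Lib.FastPerm in decide +kernel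

/-- conjugation invariance of cardinals -/
theorem card_tr {P : Perm (Fin 6) → Perm (Fin 6) → Prop} [∀ u, DecidablePred (P u)]
    (hP : ∀ σ u v, P (σ * u * σ⁻¹) (σ * v * σ⁻¹) ↔ P u v) (σ u : Perm (Fin 6)) :
    (univ.filter (P (σ * u * σ⁻¹))).card = (univ.filter (P u)).card := by
  symm
  refine Finset.card_bij (fun v _ => σ * v * σ⁻¹) ?_ ?_ ?_
  · intro v hv
    rw [mem_filter] at hv ⊢
    exact ⟨mem_univ _, (hP σ u v).2 hv.2⟩
  · intro a _ b _ hab
    exact mul_left_cancel (mul_right_cancel hab)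
  · intro b hb
    rw [mem_filter] at hb
    refine ⟨σ⁻¹ * b * σ, ?_, by group⟩
    rw [mem_filter]
    refine ⟨mem_univ _, (hP σ u _).1 ?_⟩
    have e : σ * (σ⁻¹ * b * σ) * σ⁻¹ = b := by group
    rw [e]
    exact hb.2

theorem sign_conj (σ v : Perm (Fin 6)) : Perm.sign (σ * v * σ⁻¹) = Perm.sign v := by
  rw [map_mul, map_mul, map_inv, mul_comm (Perm.sign σ), mul_assoc, mul_inv_cancel, mul_one]

theorem comm_conj (σ u v : Perm (Fin 6)) : (σ * u * σ⁻¹) * (σ * v * σ⁻¹) = (σ * v * σ⁻¹) * (σ * u * σ⁻¹) ↔ u * v = v * u := by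
  have e1 : (σ * u * σ⁻¹) * (σ * v * σ⁻¹) = σ * (u * v) * σ⁻¹ := by group
  have e2 : (σ * v * σ⁻¹) * (σ * u * σ⁻¹) = σ * (v * u) * σ⁻¹ := by group
  rw [e1, e2, mul_left_inj, mul_right_inj]

theorem one_conj (σ u : Perm (Fin 6)) : σ * u * σ⁻¹ = 1 ↔ u = 1 := by
  rw [mul_inv_eq_one, mul_eq_left]

theorem sq_conj (σ v : Perm (Fin 6)) : (σ * v * σ⁻¹) * (σ * v * σ⁻¹) = 1 ↔ v * v = 1 := by
  have e1 : (σ * v * σ⁻¹) * (σ * v * σ⁻¹) = σ * (v * v) * σ⁻¹ := by group
  rw [e1, one_conj]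

theorem inv_conj (σ u v : Perm (Fin 6)) : (σ * v * σ⁻¹) * (σ * u * σ⁻¹) * (σ * v * σ⁻¹) = (σ * u * σ⁻¹)⁻¹ ↔ v * u * v = u⁻¹ := by
  have e1 : (σ * v * σ⁻¹) * (σ * u * σ⁻¹) * (σ * v * σ⁻¹) = σ * (v * u * v) * σ⁻¹ := by group
  have e2 : (σ * u * σ⁻¹)⁻¹ = σ * u⁻¹ * σ⁻¹ := by group
  rw [e1, e2, mul_left_inj, mul_right_inj]

/-- the number of even centralising permutations -/
def nC (u : Perm (Fin 6)) : ℕ := (univ.filter fun v : Perm (Fin 6) => u * v = v * u ∧ Perm.sign v = 1).card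

/-- the number of even centralising involutions -/
def nI (u : Perm (Fin 6)) : ℕ := (univ.filter fun v : Perm (Fin 6) => v * v = 1 ∧ u * v = v * u ∧ v ≠ 1 ∧ Perm.sign v = 1).card

/-- the number of even inverting involutions -/
def nV (u : Perm (Fin 6)) : ℕ := (univ.filter fun v : Perm (Fin 6) => v * v = 1 ∧ v * u * v = u⁻¹ ∧ v ≠ 1 ∧ Perm.sign v = 1).card

theorem nC_conj (σ u : Perm (Fin 6)) : nC (σ * u * σ⁻¹) = nC u :=
  card_tr (P := fun u v => u * v = v * u ∧ Perm.sign v = 1) (fun σ u v => by rw [comm_conj, sign_conj]) σ u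

theorem nI_conj (σ u : Perm (Fin 6)) : nI (σ * u * σ⁻¹) = nI u :=
  card_tr (P := fun u v => v * v = 1 ∧ u * v = v * u ∧ v ≠ 1 ∧ Perm.sign v = 1)
    (fun σ u v => by rw [comm_conj, sign_conj, sq_conj, Ne, one_conj]) σ u

theorem nV_conj (σ u : Perm (Fin 6)) : nV (σ * u * σ⁻¹) = nV u :=
  card_tr (P := fun u v => v * v = 1 ∧ v * u * v = u⁻¹ ∧ v ≠ 1 ∧ Perm.sign v = 1)
    (fun σ u v => by rw [inv_conj, sign_conj, sq_conj, Ne, one_conj]) σ u

theorem ct2 : c2.cycleType = {2, 2} := by decide +kernel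
theorem ct3 : c3.cycleType = {3} := by decide +kernel
theorem ct33 : c33.cycleType = {3, 3} := by decide +kernel
theorem ct5 : c5.cycleType = {5} := by decide +kernel

theorem conj_of_ct {u c : Perm (Fin 6)} (h : u.cycleType = c.cycleType) : ∃ σ : Perm (Fin 6), u = σ * c * σ⁻¹ := by
  obtain ⟨σ, hσ⟩ := isConj_iff.1 (Perm.isConj_iff_cycleType_eq.2 h.symm)
  exact ⟨σ, hσ.symm⟩

/-- the cycle types of the even permutations of prime order -/
theorem ct_cases {u : Perm (Fin 6)} {p : ℕ} (hp : p.Prime) (h : orderOf u = p) (hs : Perm.sign u = 1) :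
    (p = 2 ∧ u.cycleType = {2, 2}) ∨ (p = 3 ∧ (u.cycleType = {3} ∨ u.cycleType = {3, 3})) ∨ (p = 5 ∧ u.cycleType = {5}) := by
  obtain ⟨n, hn⟩ := Perm.cycleType_prime_order (σ := u) (by rw [h]; exact hp)
  rw [h] at hn
  have h1 := Perm.sum_cycleType u
  have h2 : u.support.card ≤ 6 := by
    have := Finset.card_le_univ u.support
    simpa using this
  rw [hn, Multiset.sum_replicate, smul_eq_mul] at h1
  have h3 := Perm.sign_of_cycleType u
  rw [hs, hn, Multiset.sum_replicate, smul_eq_mul, Multiset.card_replicate] at h3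
  have hp2 := hp.two_le
  have h4 : (n + 1) * p ≤ 6 := by omega
  have hp6 : p ≤ 6 := by nlinarith
  interval_cases p
  · have hn2 : n ≤ 2 := by omega
    left
    interval_cases n
    · exfalso; revert h3; decide
    · exact ⟨rfl, by rw [hn]; rfl⟩
    · exfalso; revert h3; decide
  · have hn2 : n ≤ 1 := by omega
    right; left
    interval_cases n
    · exact ⟨rfl, Or.inl (by rw [hn]; rfl)⟩
    · exact ⟨rfl, Or.inr (by rw [hn]; rfl)⟩
  · exact absurd hp (by norm_num)
  · have hn2 : n ≤ 0 := by omega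
    right; right
    interval_cases n
    exact ⟨rfl, by rw [hn]; rfl⟩
  · exact absurd hp (by norm_num)

theorem dec_two {u : Perm (Fin 6)} (h : orderOf u = 2) (hs : Perm.sign u = 1) : nC u = 8 ∧ nI u = 5 := by
  rcases ct_cases Nat.prime_two h hs with ⟨-, h1⟩ | ⟨h1, -⟩ | ⟨h1, -⟩
  · obtain ⟨σ, rfl⟩ := conj_of_ct (h1.trans ct2.symm)
    rw [nC_conj, nI_conj]
    exact dec_two0
  · omega
  · omega

theorem dec_three {u : Perm (Fin 6)} (h : orderOf u = 3) (hs : Perm.sign u = 1) : nC u = 9 ∧ nV u = 9 := by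
  rcases ct_cases Nat.prime_three h hs with ⟨h1, -⟩ | ⟨-, h1 | h1⟩ | ⟨h1, -⟩
  · omega
  · obtain ⟨σ, rfl⟩ := conj_of_ct (h1.trans ct3.symm)
    rw [nC_conj, nV_conj]
    exact ⟨dec_three0c, dec_three0⟩
  · obtain ⟨σ, rfl⟩ := conj_of_ct (h1.trans ct33.symm)
    rw [nC_conj, nV_conj]
    exact ⟨dec_three1c, dec_three1⟩
  · omega

theorem dec_five {u : Perm (Fin 6)} (h : orderOf u = 5) (hs : Perm.sign u = 1) : nC u = 5 ∧ nV u = 5 := by
  rcases ct_cases (by norm_num) h hs with ⟨h1, -⟩ | ⟨h1, -⟩ | ⟨-, h1⟩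
  · omega
  · omega
  · obtain ⟨σ, rfl⟩ := conj_of_ct (h1.trans ct5.symm)
    rw [nC_conj, nV_conj]
    exact dec_five0

end Cfsg.Agent.H998.EPA
end

-- part: H998/EPA/SixSub
section
/-!
# S3499-IV-L A6: counting elements of `A₆` (helper998)
-/

set_option autoImplicit false

namespace Cfsg.Agent.H998.EPA

open Subgroup Equiv Cfsg.Agent.H417.EP

/-- `A₆` -/
abbrev L6 := alternatingGroup (Fin 6)

theorem card_L6 : Nat.card L6 = 360 := by
  have h := nat_card_alternatingGroup (α := Fin 6)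
  rw [h, Nat.card_fin]
  rfl

instance simple_L6 : IsSimpleGroup L6 := Cfsg.Agent.H824.ProdLem.simple_a6

/-! ### counting elements -/

theorem card_sub (P : Perm (Fin 6) → Prop) [DecidablePred P] :
    Nat.card {v : L6 // P v} = (Finset.univ.filter fun v : Perm (Fin 6) => P v ∧ Perm.sign v = 1).card := by
  classical
  let e : {v : L6 // P v} ≃ {v : Perm (Fin 6) // P v ∧ Perm.sign v = 1} :=
    { toFun := fun v => ⟨v.1, v.2, Perm.mem_alternatingGroup.1 v.1.2⟩
      invFun := fun v => ⟨⟨v.1, Perm.mem_alternatingGroup.2 v.2.2⟩, v.2.1⟩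
      left_inv := fun _ => rfl
      right_inv := fun _ => rfl }
  rw [Nat.card_congr e, Nat.card_eq_fintype_card, Fintype.card_subtype]

theorem sg (u : L6) : Perm.sign (u : Perm (Fin 6)) = 1 := Perm.mem_alternatingGroup.1 u.2

theorem cent_facts {u : L6} {n : ℕ} (hd : nC u = n) : Nat.card {v : L6 // u * v = v * u} = n := by
  rw [← hd, nC, ← card_sub fun v => (u : Perm (Fin 6)) * v = v * u]
  exact Nat.card_congr (Equiv.subtypeEquivRight fun v => Subtype.ext_iff)

theorem nI_facts {u : L6} {n : ℕ} (hd : nI u = n) : Nat.card {v : L6 // v * v = 1 ∧ u * v = v * u ∧ v ≠ 1} = n := by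
  rw [← hd, nI]
  have e : (Finset.univ.filter fun v : Perm (Fin 6) => v * v = 1 ∧ (u : Perm (Fin 6)) * v = v * u ∧ v ≠ 1 ∧ Perm.sign v = 1) =
      Finset.univ.filter fun v : Perm (Fin 6) => (v * v = 1 ∧ (u : Perm (Fin 6)) * v = v * u ∧ v ≠ 1) ∧ Perm.sign v = 1 := by
    apply Finset.filter_congr
    intro v _
    tauto
  rw [e, ← card_sub fun v => v * v = 1 ∧ (u : Perm (Fin 6)) * v = v * u ∧ v ≠ 1]
  refine Nat.card_congr (Equiv.subtypeEquivRight fun v => ?_)
  rw [Subtype.ext_iff, Subtype.ext_iff, Ne, Subtype.ext_iff]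
  rfl

theorem nV_facts {u : L6} {n : ℕ} (hd : nV u = n) :
    Nat.card {v : L6 // v * v = 1 ∧ v * u * v = u⁻¹ ∧ v ≠ 1} = n := by
  rw [← hd, nV]
  have e : (Finset.univ.filter fun v : Perm (Fin 6) => v * v = 1 ∧ v * (u : Perm (Fin 6)) * v = (u : Perm (Fin 6))⁻¹ ∧ v ≠ 1 ∧
      Perm.sign v = 1) = Finset.univ.filter fun v : Perm (Fin 6) =>
      (v * v = 1 ∧ v * (u : Perm (Fin 6)) * v = (u : Perm (Fin 6))⁻¹ ∧ v ≠ 1) ∧ Perm.sign v = 1 := by
    apply Finset.filter_congr
    intro v _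
    tauto
  rw [e, ← card_sub fun v => v * v = 1 ∧ v * (u : Perm (Fin 6)) * v = (u : Perm (Fin 6))⁻¹ ∧ v ≠ 1]
  refine Nat.card_congr (Equiv.subtypeEquivRight fun v => ?_)
  rw [Subtype.ext_iff, Subtype.ext_iff, Ne, Subtype.ext_iff]
  rfl

theorem ord_coe {u : L6} {p : ℕ} (hp : p.Prime) (h : u ^ p = 1) (h1 : u ≠ 1) : orderOf (u : Perm (Fin 6)) = p := by
  have := Fact.mk hp
  rw [Subgroup.orderOf_coe]
  exact orderOf_eq_prime h h1

theorem two_facts {u : L6} (h : u ^ 2 = 1) (h1 : u ≠ 1) :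
    Nat.card {v : L6 // u * v = v * u} = 8 ∧ Nat.card {v : L6 // v * v = 1 ∧ u * v = v * u ∧ v ≠ 1} = 5 := by
  obtain ⟨a, b⟩ := dec_two (ord_coe Nat.prime_two h h1) (sg u)
  exact ⟨cent_facts a, nI_facts b⟩

theorem three_facts {u : L6} (h : u ^ 3 = 1) (h1 : u ≠ 1) :
    Nat.card {v : L6 // u * v = v * u} = 9 ∧ Nat.card {v : L6 // v * v = 1 ∧ v * u * v = u⁻¹ ∧ v ≠ 1} = 9 := by
  obtain ⟨a, b⟩ := dec_three (ord_coe Nat.prime_three h h1) (sg u)
  exact ⟨cent_facts a, nV_facts b⟩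

theorem five_facts {u : L6} (h : u ^ 5 = 1) (h1 : u ≠ 1) :
    Nat.card {v : L6 // u * v = v * u} = 5 ∧ Nat.card {v : L6 // v * v = 1 ∧ v * u * v = u⁻¹ ∧ v ≠ 1} = 5 := by
  obtain ⟨a, b⟩ := dec_five (ord_coe (by norm_num) h h1) (sg u)
  exact ⟨cent_facts a, nV_facts b⟩

/-- the elements of order 2 -/
theorem card_two : Nat.card {u : L6 // u ^ 2 = 1 ∧ u ≠ 1} = 45 := by
  have e : Nat.card {u : L6 // u ^ 2 = 1 ∧ u ≠ 1} = Nat.card {u : L6 // (u : Perm (Fin 6)) * u = 1 ∧ (u : Perm (Fin 6)) ≠ 1} := by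
    refine Nat.card_congr (Equiv.subtypeEquivRight fun v => ?_)
    rw [Subtype.ext_iff, Ne, Subtype.ext_iff, pow_two]
    rfl
  rw [e, card_sub fun t => t * t = 1 ∧ t ≠ 1]
  exact dec_card2

theorem card_three : Nat.card {u : L6 // u ^ 3 = 1 ∧ u ≠ 1} = 80 := by
  have e : Nat.card {u : L6 // u ^ 3 = 1 ∧ u ≠ 1} =
      Nat.card {u : L6 // (u : Perm (Fin 6)) * u * u = 1 ∧ (u : Perm (Fin 6)) ≠ 1} := by
    refine Nat.card_congr (Equiv.subtypeEquivRight fun v => ?_)
    rw [Subtype.ext_iff, Ne, Subtype.ext_iff, pow_succ, pow_two]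
    rfl
  rw [e, card_sub fun t => t * t * t = 1 ∧ t ≠ 1]
  exact dec_card3

theorem card_five : Nat.card {u : L6 // u ^ 5 = 1 ∧ u ≠ 1} = 144 := by
  have e : Nat.card {u : L6 // u ^ 5 = 1 ∧ u ≠ 1} =
      Nat.card {u : L6 // (u : Perm (Fin 6)) * u * u * u * u = 1 ∧ (u : Perm (Fin 6)) ≠ 1} := by
    refine Nat.card_congr (Equiv.subtypeEquivRight fun v => ?_)
    rw [Subtype.ext_iff, Ne, Subtype.ext_iff, pow_succ, pow_succ, pow_succ, pow_two]
    rfl
  rw [e, card_sub fun t => t * t * t * t * t = 1 ∧ t ≠ 1]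
  exact dec_card5

/-- the weight: the indicator of the involutions -/
def wt (t : L6) : ℕ := if t ^ 2 = 1 ∧ t ≠ 1 then 1 else 0

theorem wt_one : wt 1 = 0 := by
  unfold wt
  rw [if_neg]
  rintro ⟨-, h⟩
  exact h rfl

theorem sum_wt : ∑ t : L6, wt t ≤ 45 := by
  unfold wt
  rw [← Finset.card_filter, ← Fintype.card_subtype, ← Nat.card_eq_fintype_card, card_two]

open Classical in
theorem le_sum {K : Subgroup L6} {P : L6 → Prop} (hP : ∀ t, P t → t ∈ K ∧ t ^ 2 = 1 ∧ t ≠ 1) {n : ℕ}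
    (hn : n ≤ Nat.card {t : L6 // P t}) : n ≤ ∑ t : L6, if t ∈ K then wt t else 0 := by
  have h1 : ∀ t : L6, (if t ∈ K then wt t else 0) = if t ∈ K ∧ t ^ 2 = 1 ∧ t ≠ 1 then 1 else 0 := by
    intro t
    unfold wt
    by_cases h1 : t ∈ K
    · by_cases h2 : t ^ 2 = 1 ∧ t ≠ 1
      · rw [if_pos h1, if_pos h2, if_pos ⟨h1, h2⟩]
      · rw [if_pos h1, if_neg h2, if_neg fun h => h2 h.2]
    · rw [if_neg h1, if_neg fun h => h1 h.1]
  rw [Finset.sum_congr rfl fun t _ => h1 t, ← Finset.sum_filter, Finset.sum_const, smul_eq_mul, mul_one]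
  refine hn.trans ?_
  rw [Nat.card_eq_fintype_card, Fintype.card_subtype]
  apply Finset.card_le_card
  intro t ht
  rw [Finset.mem_filter] at ht ⊢
  exact ⟨ht.1, hP t ht.2⟩

end Cfsg.Agent.H998.EPA
end

-- part: H998/EPA/SixAdm
section
/-!
# S3499-IV-L A6: the admissible subgroups of `A₆` (helper998)
-/

set_option autoImplicit false

namespace Cfsg.Agent.H998.EPA

open Subgroup Equiv Cfsg.Agent.H417.EP

/-- an elementary abelian subgroup with normaliser `K` -/
structure El (K : Subgroup L6) (p : ℕ) (V : Subgroup L6) : Prop where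
  pr : p.Prime
  le : V ≤ K
  ne : V ≠ ⊥
  pow : ∀ v ∈ V, v ^ p = 1
  comm : ∀ a ∈ V, ∀ b ∈ V, a * b = b * a
  nrm : ∀ g : L6, (∀ x ∈ V, g * x * g⁻¹ ∈ V) → g ∈ K
  inv : ∀ g ∈ K, ∀ x ∈ V, g * x * g⁻¹ ∈ V

theorem exists_el {K : Subgroup L6} (hK : Adm K) (hs : Group.IsSolvable K) : ∃ p V, El K p V := by
  have hnt : Nontrivial K := (Subgroup.nontrivial_iff_ne_bot K).2 hK.ne_bot
  obtain ⟨p, hp, -, V, hVc, hVb, hVm, hVp⟩ := Cfsg.Agent.H582.exists_char_elemAb K hs
  have hmem : ∀ y : K, (y : L6) ∈ V.map K.subtype ↔ y ∈ V := fun y =>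
    Subgroup.mem_map_iff_mem K.subtype_injective
  have hφ : ∀ φ : MulAut K, ∀ y ∈ V, φ y ∈ V := by
    intro φ y hy
    have h1 := hVc.fixed φ
    have h2 : y ∈ V.comap φ.toMonoidHom := by rw [h1]; exact hy
    exact h2
  refine ⟨p, V.map K.subtype, hp, ?_, ?_, ?_, ?_, ?_, ?_⟩
  · rintro _ ⟨v, -, rfl⟩
    exact v.2
  · rw [Ne, Subgroup.map_eq_bot_iff_of_injective _ K.subtype_injective]
    exact hVb
  · rintro _ ⟨v, hv, rfl⟩
    exact congrArg Subtype.val (hVp v hv)
  · rintro _ ⟨v, hv, rfl⟩ _ ⟨w, hw, rfl⟩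
    exact congrArg Subtype.val (hVm v hv w hw)
  · refine hK.norm _ ?_ ?_ ?_
    · rintro _ ⟨v, -, rfl⟩
      exact v.2
    · rw [Ne, Subgroup.map_eq_bot_iff_of_injective _ K.subtype_injective]
      exact hVb
    · intro φ y hy
      exact (hmem _).2 (hφ φ y ((hmem y).1 hy))
  · rintro g hg _ ⟨v, hv, rfl⟩
    have h1 := hφ (MulAut.conj ⟨g, hg⟩) v hv
    exact ⟨_, h1, rfl⟩

/-- the centraliser of an element -/
def cen (u : L6) : Subgroup L6 where
  carrier := {v | u * v = v * u}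
  one_mem' := by simp
  mul_mem' := by
    intro a b ha hb
    have ha' : u * a = a * u := ha
    have hb' : u * b = b * u := hb
    show u * (a * b) = a * b * u
    rw [← mul_assoc, ha', mul_assoc, hb', mul_assoc]
  inv_mem' := by
    intro a ha
    have ha' : u * a = a * u := ha
    show u * a⁻¹ = a⁻¹ * u
    rw [eq_inv_mul_iff_mul_eq, ← mul_assoc, ← ha', mul_inv_cancel_right]

theorem mem_cen {u v : L6} : v ∈ cen u ↔ u * v = v * u := Iff.rfl

theorem card_cen {u : L6} {n : ℕ} (h : Nat.card {v : L6 // u * v = v * u} = n) : Nat.card (cen u) = n := h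

namespace El

variable {K : Subgroup L6} {p : ℕ} {V : Subgroup L6} (h : El K p V)

include h

theorem exists_ne : ∃ u ∈ V, u ≠ 1 := by
  obtain ⟨⟨u, hu⟩, h1⟩ := Subgroup.ne_bot_iff_exists_ne_one.1 h.ne
  exact ⟨u, hu, fun e => h1 (Subtype.ext e)⟩

theorem le_cen {u : L6} (hu : u ∈ V) : V ≤ cen u := fun v hv => h.comm u hu v hv

/-- `K` is the normaliser of `V` -/
theorem mem_iff {g : L6} : g ∈ K ↔ ∀ x ∈ V, g * x * g⁻¹ ∈ V := ⟨h.inv g, h.nrm g⟩

theorem p_cases : p = 2 ∨ p = 3 ∨ p = 5 := by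
  obtain ⟨u, hu, hu1⟩ := h.exists_ne
  have h1 : orderOf u = p := by
    have := Fact.mk h.pr
    exact orderOf_eq_prime (h.pow u hu) hu1
  have h2 : p ∣ 360 := by
    rw [← card_L6, ← h1]
    exact orderOf_dvd_natCard u
  have h3 : p ∈ Nat.primeFactors 360 := Nat.mem_primeFactors.2 ⟨h.pr, h2, by norm_num⟩
  have h4 : Nat.primeFactors 360 = {2, 3, 5} := by decide +kernel
  rw [h4] at h3
  simpa using h3

/-- `V` has order 2 or 4 if `p = 2` -/
theorem card_cases (hp : p = 2) {u : L6} (hu : u ∈ V) (hu1 : u ≠ 1) : Nat.card V = 2 ∨ Nat.card V = 4 := by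
  subst hp
  have hu2 : u ^ 2 = 1 := h.pow u hu
  obtain ⟨h8, h5⟩ := two_facts hu2 hu1
  have hc := card_cen h8
  have hle := h.le_cen hu
  have hdvd : Nat.card V ∣ 8 := by rw [← hc]; exact Subgroup.card_dvd_of_le hle
  have hne8 : Nat.card V ≠ 8 := by
    intro e
    have h1 : V = cen u := Subgroup.eq_of_le_of_card_ge hle (by rw [e, hc])
    have h2 : Nat.card {v : L6 // v * v = 1 ∧ u * v = v * u ∧ v ≠ 1} = 7 := by
      have h3 : Nat.card {v : L6 // v * v = 1 ∧ u * v = v * u ∧ v ≠ 1} = Nat.card {v : V // v ≠ 1} := by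
        refine Nat.card_congr
          { toFun := fun v => ⟨⟨v.1, by rw [h1]; exact v.2.2.1⟩, fun e => v.2.2.2 (congrArg Subtype.val e)⟩
            invFun := fun v => ⟨v.1.1, by rw [← pow_two]; exact h.pow _ v.1.2, hle v.1.2, fun e => v.2 (Subtype.ext e)⟩
            left_inv := fun _ => rfl
            right_inv := fun _ => rfl }
      rw [h3]
      classical
      have : Fintype V := Fintype.ofFinite V
      rw [Nat.card_eq_fintype_card, Fintype.card_subtype_compl, Fintype.card_subtype_eq,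
        ← Nat.card_eq_fintype_card, e]
    omega
  have hpos : Nat.card V ≠ 1 := fun e => h.ne (Subgroup.card_eq_one.1 e)
  have h3 : Nat.card V ∈ Nat.divisors 8 := Nat.mem_divisors.2 ⟨hdvd, by norm_num⟩
  have h4 : Nat.divisors 8 = {1, 2, 4, 8} := by decide +kernel
  rw [h4] at h3
  simp only [Finset.mem_insert, Finset.mem_singleton] at h3
  omega

theorem card_zpowers {u : L6} (hu : u ∈ V) (hu1 : u ≠ 1) : Nat.card (zpowers u) = p := by
  have := Fact.mk h.pr
  rw [Nat.card_zpowers]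
  exact orderOf_eq_prime (h.pow u hu) hu1

theorem eq_zpowers (hc : Nat.card V = p) {u : L6} (hu : u ∈ V) (hu1 : u ≠ 1) : V = zpowers u :=
  (Subgroup.eq_of_le_of_card_ge (Subgroup.zpowers_le.2 hu) (by rw [hc, h.card_zpowers hu hu1])).symm

/-- `V` is `⟨u⟩` or the centraliser of `u` if this has order `p²` -/
theorem eq_or {u : L6} (hu : u ∈ V) (hu1 : u ≠ 1) (hc : Nat.card (cen u) ∣ p ^ 2) : V = zpowers u ∨ V = cen u := by
  have hle := h.le_cen hu
  obtain ⟨k, hk, hVk⟩ := (Nat.dvd_prime_pow h.pr).1 ((Subgroup.card_dvd_of_le hle).trans hc)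
  have hk0 : k ≠ 0 := by
    rintro rfl
    exact h.ne (Subgroup.card_eq_one.1 (by rw [hVk, pow_zero]))
  have hk' : k = 1 ∨ k = 2 := by omega
  rcases hk' with rfl | rfl
  · left
    exact h.eq_zpowers (by rw [hVk, pow_one]) hu hu1
  · right
    exact Subgroup.eq_of_le_of_card_ge hle (by rw [hVk]; exact Nat.le_of_dvd (pow_pos h.pr.pos 2) hc)

/-- the centraliser of an involution of `V` is contained in `K` -/
theorem cen_le (hp : p = 2) {u : L6} (hu : u ∈ V) (hu1 : u ≠ 1) : cen u ≤ K := by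
  have hcases := h.card_cases hp hu hu1
  subst hp
  have hu2 : u ^ 2 = 1 := h.pow u hu
  obtain ⟨h8, h5⟩ := two_facts hu2 hu1
  have hc := card_cen h8
  have hle := h.le_cen hu
  intro g hg
  refine h.nrm g fun x hx => ?_
  rcases hcases with h2 | h4
  · have h5 : x = 1 ∨ x = u := by
      have h6 := h.eq_zpowers h2 hu hu1
      rw [h6, Subgroup.mem_zpowers_iff] at hx
      obtain ⟨k, rfl⟩ := hx
      rcases Int.even_or_odd' k with ⟨m, rfl | rfl⟩
      · left
        rw [zpow_mul, zpow_ofNat, hu2, one_zpow]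
      · right
        rw [zpow_add, zpow_mul, zpow_ofNat, hu2, one_zpow, one_mul, zpow_one]
    rcases h5 with rfl | rfl
    · rw [mul_one, mul_inv_cancel]; exact V.one_mem
    · have hg' : x * g = g * x := hg
      rw [← hg', mul_inv_cancel_right]
      exact hu
  · have h5 : (V.subgroupOf (cen u)).index = 2 := by
      have h6 := (V.subgroupOf (cen u)).card_mul_index
      rw [Nat.card_congr (Subgroup.subgroupOfEquivOfLe hle).toEquiv, h4, hc] at h6
      omega
    have h6 : (V.subgroupOf (cen u)).Normal := Subgroup.normal_of_index_eq_two h5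
    have h7 := h6.conj_mem ⟨x, hle hx⟩ hx ⟨g, hg⟩
    exact h7

/-- an involution inverting `u` lies in `K` -/
theorem inv_mem {u : L6} (hV : V = zpowers u ∨ V = cen u) {t : L6} (ht : t * t = 1) (htu : t * u * t = u⁻¹) : t ∈ K := by
  have ht' : t⁻¹ = t := inv_eq_of_mul_eq_one_left ht
  refine h.nrm t fun x hx => ?_
  rcases hV with hV | hV
  · rw [hV, Subgroup.mem_zpowers_iff] at hx
    obtain ⟨k, rfl⟩ := hx
    rw [hV, Subgroup.mem_zpowers_iff]
    refine ⟨-k, ?_⟩
    rw [← conj_zpow, ht', htu, inv_zpow, zpow_neg]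
  · rw [hV] at hx ⊢
    rw [mem_cen, ht'] at *
    have h1 : u * t = t * u⁻¹ := by rw [← htu, ← mul_assoc, ← mul_assoc, ht, one_mul]
    have h2 : u⁻¹ * x = x * u⁻¹ := by rw [inv_mul_eq_iff_eq_mul, ← mul_assoc, hx, mul_inv_cancel_right]
    have h3 : t * u = u⁻¹ * t := by rw [← htu, mul_assoc, ht, mul_one]
    calc u * (t * x * t) = (u * t) * (x * t) := by group
      _ = t * (u⁻¹ * x) * t := by rw [h1]; group
      _ = t * x * (u⁻¹ * t) := by rw [h2]; group
      _ = t * x * t * u := by rw [← h3]; group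

end El

open Classical in
/-- an admissible solvable subgroup contains at least five involutions -/
theorem five_sol {K : Subgroup L6} (hK : Adm K) (hs : Group.IsSolvable K) :
    5 ≤ ∑ t : L6, if t ∈ K then wt t else 0 := by
  obtain ⟨p, V, h⟩ := exists_el hK hs
  obtain ⟨u, hu, hu1⟩ := h.exists_ne
  rcases h.p_cases with hp | hp | hp
  · have hc := h.cen_le hp hu hu1
    subst hp
    refine le_sum (P := fun v => v * v = 1 ∧ u * v = v * u ∧ v ≠ 1) ?_ (two_facts (h.pow u hu) hu1).2.ge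
    rintro t ⟨h1, h2, h3⟩
    exact ⟨hc h2, by rw [pow_two, h1], h3⟩
  · subst hp
    obtain ⟨h9, h9'⟩ := three_facts (h.pow u hu) hu1
    have hV := h.eq_or hu hu1 (by rw [card_cen h9]; norm_num)
    refine le_sum (P := fun v => v * v = 1 ∧ v * u * v = u⁻¹ ∧ v ≠ 1) ?_ (by rw [h9']; norm_num)
    rintro t ⟨h1, h2, h3⟩
    exact ⟨h.inv_mem hV h1 h2, by rw [pow_two, h1], h3⟩
  · subst hp
    obtain ⟨h9, h9'⟩ := five_facts (h.pow u hu) hu1
    have hV := h.eq_or hu hu1 (by rw [card_cen h9]; norm_num)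
    refine le_sum (P := fun v => v * v = 1 ∧ v * u * v = u⁻¹ ∧ v ≠ 1) ?_ (by rw [h9'])
    rintro t ⟨h1, h2, h3⟩
    exact ⟨h.inv_mem hV h1 h2, by rw [pow_two, h1], h3⟩

/-- a non-solvable subgroup contains at least five involutions -/
theorem five_non {K : Subgroup L6} (hs : ¬ Group.IsSolvable K) :
    5 ≤ Nat.card {t : L6 // t ∈ K ∧ t ^ 2 = 1 ∧ t ≠ 1} := by
  classical
  have h60 : 60 ≤ Nat.card K := by
    by_contra hc
    exact hs (Cfsg.Agent.BpAlt.solvable_of_lt _ K rfl (not_le.1 hc))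
  have hdvd : Nat.card K ∣ 360 := by rw [← card_L6]; exact Subgroup.card_subgroup_dvd_card K
  have h2 : 2 ∣ Nat.card K := by
    obtain ⟨m, hm⟩ := hdvd
    have hm6 : m ≤ 6 := by nlinarith
    have hm0 : m ≠ 0 := by rintro rfl; omega
    interval_cases m <;> omega
  have := Fact.mk Nat.prime_two
  obtain ⟨⟨t, ht⟩, hot⟩ := exists_prime_orderOf_dvd_card' 2 h2
  have hot' : orderOf t = 2 := (Subgroup.orderOf_mk t ht).symm.trans hot
  have ht2 : t ^ 2 = 1 := by rw [← hot']; exact pow_orderOf_eq_one t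
  have ht1 : t ≠ 1 := by rintro rfl; rw [orderOf_one] at hot'; omega
  have h8 := card_cen (two_facts ht2 ht1).1
  have hFK : Fintype K := Fintype.ofFinite K
  let f : K → L6 := fun g => (g : L6) * t * (g : L6)⁻¹
  have h3 : (Finset.univ : Finset K).card ≤ 8 * ((Finset.univ : Finset K).image f).card := by
    refine Finset.card_le_mul_card_image _ 8 ?_
    intro b hb
    obtain ⟨g0, -, rfl⟩ := Finset.mem_image.1 hb
    rw [← h8, Nat.card_eq_fintype_card, ← Finset.card_univ]
    have hmem : ∀ g : K, f g = f g0 → (g0 : L6)⁻¹ * g ∈ cen t := by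
      intro g hg
      rw [mem_cen]
      have hg' : (g : L6) * t * (g : L6)⁻¹ = (g0 : L6) * t * (g0 : L6)⁻¹ := hg
      calc t * ((g0 : L6)⁻¹ * g) = (g0 : L6)⁻¹ * ((g0 : L6) * t * (g0 : L6)⁻¹) * g := by group
        _ = (g0 : L6)⁻¹ * g * t := by rw [← hg']; group
    refine Finset.card_le_card_of_injOn (fun g => if hg : f g = f g0 then ⟨_, hmem g hg⟩ else 1) ?_ ?_
    · intro g _
      exact Finset.mem_coe.2 (Finset.mem_univ _)
    · intro a ha b hb hab
      have ha' := (Finset.mem_filter.1 (Finset.mem_coe.1 ha)).2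
      have hb' := (Finset.mem_filter.1 (Finset.mem_coe.1 hb)).2
      simp only [dif_pos ha', dif_pos hb'] at hab
      have h4 := congrArg Subtype.val hab
      exact Subtype.ext (mul_left_cancel h4)
  rw [Finset.card_univ, ← Nat.card_eq_fintype_card] at h3
  have h4 : ((Finset.univ : Finset K).image f).card ≤ Nat.card {t : L6 // t ∈ K ∧ t ^ 2 = 1 ∧ t ≠ 1} := by
    rw [Nat.card_eq_fintype_card, Fintype.card_subtype]
    apply Finset.card_le_card
    intro x hx
    obtain ⟨g, -, rfl⟩ := Finset.mem_image.1 hx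
    rw [Finset.mem_filter]
    refine ⟨Finset.mem_univ _, K.mul_mem (K.mul_mem g.2 ht) (K.inv_mem g.2), ?_, ?_⟩
    · show ((g : L6) * t * (g : L6)⁻¹) ^ 2 = 1
      rw [conj_pow, ht2, mul_one, mul_inv_cancel]
    · intro e
      apply ht1
      have e' : (g : L6) * t * (g : L6)⁻¹ = 1 := e
      rwa [mul_inv_eq_one, mul_eq_left] at e'
  omega

open Classical in
/-- **An admissible subgroup of `A₆` contains at least five involutions.** -/
theorem five_le {K : Subgroup L6} (hK : Adm K) : 5 ≤ ∑ t : L6, if t ∈ K then wt t else 0 := by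
  by_cases hs : Group.IsSolvable K
  · exact five_sol hK hs
  · exact le_sum (P := fun t => t ∈ K ∧ t ^ 2 = 1 ∧ t ≠ 1) (fun t ht => ht) (five_non hs)

end Cfsg.Agent.H998.EPA
end

-- part: H998/EPA/SixCount
section
/-!
# S3499-IV-L A6: the number of admissible subgroups of `A₆` (helper998)
-/

set_option autoImplicit false

namespace Cfsg.Agent.H998.EPA

open Subgroup Equiv Cfsg.Agent.H417.EP

/-- a function whose fibres have at least `n` elements -/
theorem fib {α β : Type*} [Finite α] (f : α → β) (n : ℕ) (hn : ∀ a, n ≤ Nat.card {x // f x = f a}) :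
    n * (Set.range f).ncard ≤ Nat.card α := by
  classical
  have := Fintype.ofFinite α
  have h1 : n * ((Finset.univ : Finset α).image f).card ≤ (Finset.univ : Finset α).card := by
    refine Finset.mul_card_image_le_card _ n ?_
    intro b hb
    obtain ⟨a, -, rfl⟩ := Finset.mem_image.1 hb
    refine (hn a).trans (le_of_eq ?_)
    rw [Nat.card_eq_fintype_card, Fintype.card_subtype]
  have h2 : (Set.range f).ncard = ((Finset.univ : Finset α).image f).card := by
    rw [← Set.ncard_coe_finset, Finset.coe_image, Finset.coe_univ, Set.image_univ]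
  rw [h2, Nat.card_eq_fintype_card]
  exact h1

theorem half {α β : Type*} [Finite α] (f : α → β) (s : α → α) (hs : ∀ a, s a ≠ a) (hf : ∀ a, f (s a) = f a) :
    2 * (Set.range f).ncard ≤ Nat.card α := by
  classical
  refine fib f 2 fun a => ?_
  have h1 : Function.Injective (fun b : Bool => (if b then ⟨a, rfl⟩ else ⟨s a, hf a⟩ : {x // f x = f a})) := by
    intro b c hbc
    cases b <;> cases c <;> simp_all
    exact absurd hbc.symm (hs a)
  have h2 := Nat.card_le_card_of_injective _ h1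
  rwa [Nat.card_eq_fintype_card, Fintype.card_bool] at h2

open Classical in
/-- the normaliser as a function -/
noncomputable def F (V : Subgroup L6) : Subgroup L6 :=
  if h : ∃ K : Subgroup L6, ∀ g, g ∈ K ↔ ∀ x ∈ V, g * x * g⁻¹ ∈ V then h.choose else ⊥

theorem El.eq_F {K V : Subgroup L6} {p : ℕ} (h : El K p V) : K = F V := by
  have hex : ∃ K : Subgroup L6, ∀ g, g ∈ K ↔ ∀ x ∈ V, g * x * g⁻¹ ∈ V := ⟨K, fun g => h.mem_iff⟩
  unfold F
  rw [dif_pos hex]
  ext g
  rw [h.mem_iff, hex.choose_spec g]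

/-- the elements of order `p` -/
abbrev OP (p : ℕ) := {u : L6 // u ^ p = 1 ∧ u ≠ 1}

def OP.inv {p : ℕ} (u : OP p) : OP p := ⟨(u : L6)⁻¹, by
  refine ⟨by rw [inv_pow, u.2.1, inv_one], fun e => u.2.2 (inv_eq_one.1 e)⟩⟩

theorem OP.inv_ne {p : ℕ} (hp : p.Prime) (hp2 : p ≠ 2) (u : OP p) : u.inv ≠ u := by
  intro e
  have h1 : (u : L6)⁻¹ = u := congrArg Subtype.val e
  have h2 : (u : L6) ^ 2 = 1 := by
    rw [pow_two]
    nth_rewrite 1 [← h1]
    exact inv_mul_cancel _
  have := Fact.mk hp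
  have h3 : orderOf (u : L6) = p := orderOf_eq_prime u.2.1 u.2.2
  have h4 := orderOf_dvd_of_pow_eq_one h2
  rw [h3] at h4
  exact hp2 ((Nat.prime_dvd_prime_iff_eq hp Nat.prime_two).1 h4)

theorem cen_inv (u : L6) : cen u⁻¹ = cen u := by
  ext v
  rw [mem_cen, mem_cen, inv_mul_eq_iff_eq_mul, ← mul_assoc, eq_mul_inv_iff_mul_eq, eq_comm]

theorem zp_half {p : ℕ} (hp : p.Prime) (hp2 : p ≠ 2) :
    2 * (Set.range fun u : OP p => F (zpowers (u : L6))).ncard ≤ Nat.card (OP p) :=
  half _ OP.inv (OP.inv_ne hp hp2) fun u => congrArg F (Subgroup.zpowers_inv (g := (u : L6)))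

theorem cen_half {p : ℕ} (hp : p.Prime) (hp2 : p ≠ 2) :
    2 * (Set.range fun u : OP p => F (cen (u : L6))).ncard ≤ Nat.card (OP p) :=
  half _ OP.inv (OP.inv_ne hp hp2) fun u => congrArg F (cen_inv (u : L6))

/-- the ordered pairs generating a four-group -/
abbrev OQ := Σ u : OP 2, {v : L6 // (v * v = 1 ∧ (u : L6) * v = v * u ∧ v ≠ 1) ∧ v ≠ u}

theorem card_OQ : Nat.card OQ = 180 := by
  classical
  have h1 : ∀ u : OP 2, Nat.card {v : L6 // (v * v = 1 ∧ (u : L6) * v = v * u ∧ v ≠ 1) ∧ v ≠ u} = 4 := by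
    intro u
    have h5 := (two_facts u.2.1 u.2.2).2
    rw [Nat.card_eq_fintype_card, Fintype.card_subtype] at h5 ⊢
    have h2 : (Finset.univ.filter fun v : L6 => (v * v = 1 ∧ (u : L6) * v = v * u ∧ v ≠ 1) ∧ v ≠ u) =
        (Finset.univ.filter fun v : L6 => v * v = 1 ∧ (u : L6) * v = v * u ∧ v ≠ 1).erase u := by
      ext v
      simp only [Finset.mem_filter, Finset.mem_erase, Finset.mem_univ, true_and]
      tauto
    rw [h2, Finset.card_erase_of_mem, h5]
    rw [Finset.mem_filter]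
    exact ⟨Finset.mem_univ _, by rw [← pow_two]; exact u.2.1, rfl, u.2.2⟩
  rw [Nat.card_sigma, Finset.sum_const_nat fun u _ => h1 u, Finset.card_univ,
    ← Nat.card_eq_fintype_card, card_two]

def OQ.sw (q : OQ) : OQ := ⟨q.1, ⟨(q.1 : L6) * q.2.1, by
  obtain ⟨⟨u, hu, hu1⟩, ⟨v, ⟨hv, huv, hv1⟩, hvu⟩⟩ := q
  have huv' : u * v = v * u := huv
  have huu : u * u = 1 := by rw [← pow_two]; exact hu
  refine ⟨⟨?_, ?_, ?_⟩, ?_⟩
  · show u * v * (u * v) = 1
    calc u * v * (u * v) = u * (v * u) * v := by group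
      _ = u * (u * v) * v := by rw [huv']
      _ = u * u * (v * v) := by group
      _ = 1 := by rw [huu, hv, one_mul]
  · show u * (u * v) = u * v * u
    rw [mul_assoc, huv']
  · show u * v ≠ 1
    intro e
    apply hvu
    show v = u
    rw [mul_eq_one_iff_eq_inv] at e
    rw [e] at huu
    rw [e, eq_comm, inv_eq_of_mul_eq_one_left hv]
  · show u * v ≠ u
    rw [Ne, mul_eq_left]
    exact hv1⟩⟩

theorem OQ.sw_ne (q : OQ) : q.sw ≠ q := by
  obtain ⟨⟨u, hu, hu1⟩, ⟨v, ⟨hv, huv, hv1⟩, hvu⟩⟩ := q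
  intro e
  have h1 := congrArg (fun q : OQ => (q.2.1 : L6)) e
  have h2 : u * v = v := h1
  exact hu1 (mul_eq_right.1 h2)

theorem oq_half : 2 * (Set.range fun q : OQ => F (zpowers (q.1 : L6) ⊔ zpowers q.2.1)).ncard ≤ 180 := by
  rw [← card_OQ]
  refine half _ OQ.sw OQ.sw_ne fun q => congrArg F ?_
  show zpowers (q.1 : L6) ⊔ zpowers ((q.1 : L6) * q.2.1) = zpowers (q.1 : L6) ⊔ zpowers q.2.1
  have hu1 : (q.1 : L6) ∈ zpowers (q.1 : L6) ⊔ zpowers ((q.1 : L6) * q.2.1) :=
    (le_sup_left : zpowers (q.1 : L6) ≤ _) (Subgroup.mem_zpowers _)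
  have hu2 : (q.1 : L6) ∈ zpowers (q.1 : L6) ⊔ zpowers q.2.1 :=
    (le_sup_left : zpowers (q.1 : L6) ≤ _) (Subgroup.mem_zpowers _)
  have hv1 : (q.1 : L6) * q.2.1 ∈ zpowers (q.1 : L6) ⊔ zpowers ((q.1 : L6) * q.2.1) :=
    (le_sup_right : zpowers ((q.1 : L6) * q.2.1) ≤ _) (Subgroup.mem_zpowers _)
  have hv2 : q.2.1 ∈ zpowers (q.1 : L6) ⊔ zpowers q.2.1 :=
    (le_sup_right : zpowers q.2.1 ≤ _) (Subgroup.mem_zpowers _)
  apply le_antisymm
  · refine sup_le le_sup_left (Subgroup.zpowers_le.2 (Subgroup.mul_mem _ hu2 hv2))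
  · refine sup_le le_sup_left (Subgroup.zpowers_le.2 ?_)
    have h := Subgroup.mul_mem _ (Subgroup.inv_mem _ hu1) hv1
    rwa [inv_mul_cancel_left] at h

theorem two_mem {K V : Subgroup L6} (h : El K 2 V) :
    K ∈ (Set.range fun u : OP 2 => F (zpowers (u : L6))) ∪ Set.range fun q : OQ => F (zpowers (q.1 : L6) ⊔ zpowers q.2.1) := by
  obtain ⟨u, hu, hu1⟩ := h.exists_ne
  rcases h.card_cases rfl hu hu1 with h2 | h4
  · left
    exact ⟨⟨u, h.pow u hu, hu1⟩, (h.eq_F.trans (congrArg F (h.eq_zpowers h2 hu hu1))).symm⟩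
  · right
    have hz := h.card_zpowers hu hu1
    have hle : zpowers u ≤ V := Subgroup.zpowers_le.2 hu
    obtain ⟨v, hv, hvu⟩ : ∃ v ∈ V, v ∉ zpowers u := by
      by_contra hcon
      push Not at hcon
      have h1 := Subgroup.card_le_of_le (show V ≤ zpowers u from hcon)
      omega
    have hv1 : v ≠ 1 := by rintro rfl; exact hvu (Subgroup.one_mem _)
    have hvu' : v ≠ u := by rintro rfl; exact hvu (Subgroup.mem_zpowers _)
    refine ⟨⟨⟨u, h.pow u hu, hu1⟩, ⟨v, ⟨?_, ?_, hv1⟩, hvu'⟩⟩, ?_⟩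
    · rw [← pow_two]; exact h.pow v hv
    · exact h.comm u hu v hv
    · refine Eq.trans (congrArg F ?_) h.eq_F.symm
      show zpowers u ⊔ zpowers v = V
      have hle2 : zpowers u ⊔ zpowers v ≤ V := sup_le hle (Subgroup.zpowers_le.2 hv)
      refine Subgroup.eq_of_le_of_card_ge hle2 ?_
      rw [h4]
      have h5 : Nat.card (zpowers u ⊔ zpowers v : Subgroup L6) ∣ 4 := by rw [← h4]; exact Subgroup.card_dvd_of_le hle2
      have h6 : 2 ∣ Nat.card (zpowers u ⊔ zpowers v : Subgroup L6) := by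
        rw [← hz]; exact Subgroup.card_dvd_of_le le_sup_left
      have h7 : Nat.card (zpowers u ⊔ zpowers v : Subgroup L6) ≠ 2 := by
        intro e
        have h8 : zpowers u = zpowers u ⊔ zpowers v := Subgroup.eq_of_le_of_card_ge le_sup_left (by rw [e, hz])
        apply hvu
        rw [h8]
        exact (le_sup_right : zpowers v ≤ _) (Subgroup.mem_zpowers _)
      have h9 : 0 < Nat.card (zpowers u ⊔ zpowers v : Subgroup L6) := Nat.card_pos
      have h10 := Nat.le_of_dvd (by norm_num) h5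
      obtain ⟨k, hk⟩ := h6
      obtain ⟨l, hl⟩ := h5
      rw [hk] at hl h7 h9 h10 ⊢
      have hk2 : k ≤ 2 := by omega
      interval_cases k <;> omega

theorem three_mem {K V : Subgroup L6} (h : El K 3 V) :
    K ∈ (Set.range fun u : OP 3 => F (zpowers (u : L6))) ∪ Set.range fun u : OP 3 => F (cen (u : L6)) := by
  obtain ⟨u, hu, hu1⟩ := h.exists_ne
  obtain ⟨h9, h9'⟩ := three_facts (h.pow u hu) hu1
  rcases h.eq_or hu hu1 (by rw [card_cen h9]; norm_num) with hV | hV
  · left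
    exact ⟨⟨u, h.pow u hu, hu1⟩, (h.eq_F.trans (congrArg F hV)).symm⟩
  · right
    exact ⟨⟨u, h.pow u hu, hu1⟩, (h.eq_F.trans (congrArg F hV)).symm⟩

theorem five_mem {K V : Subgroup L6} (h : El K 5 V) :
    K ∈ (Set.range fun u : OP 5 => F (zpowers (u : L6))) := by
  obtain ⟨u, hu, hu1⟩ := h.exists_ne
  have h9 := (five_facts (h.pow u hu) hu1).1
  have hz := h.card_zpowers hu hu1
  have h1 : V = zpowers u := by
    refine (Subgroup.eq_of_le_of_card_ge (Subgroup.zpowers_le.2 hu) ?_).symm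
    rw [hz, ← card_cen h9]
    exact Subgroup.card_le_of_le (h.le_cen hu)
  exact ⟨⟨u, h.pow u hu, hu1⟩, (h.eq_F.trans (congrArg F h1)).symm⟩

/-! ### subgroups of index 6 -/

/-- the stabiliser of 0 -/
def st0 : Subgroup L6 where
  carrier := {v | (v : Perm (Fin 6)) 0 = 0}
  one_mem' := rfl
  mul_mem' := by
    intro a b ha hb
    have ha' : (a : Perm (Fin 6)) 0 = 0 := ha
    have hb' : (b : Perm (Fin 6)) 0 = 0 := hb
    show ((a : Perm (Fin 6)) * (b : Perm (Fin 6))) 0 = 0
    rw [Perm.mul_apply, hb', ha']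
  inv_mem' := by
    intro a ha
    have ha' : (a : Perm (Fin 6)) 0 = 0 := ha
    show ((a : Perm (Fin 6))⁻¹) 0 = 0
    rw [Perm.inv_eq_iff_eq, ha']

theorem dec_st : (Finset.univ.filter fun v : Perm (Fin 6) => v 0 = 0 ∧ Perm.sign v = 1).card = 60 := by
  set_option synthInstance.maxSize 9000 in open scoped Cfsg.Agent.Lib.FastPerm in decide +kernel

theorem card_st0 : Nat.card st0 = 60 := by
  rw [← dec_st, ← card_sub fun v => v 0 = 0]
  rfl

theorem exists_aut {K : Subgroup L6} (hK : K.index = 6) : ∃ φ : MulAut L6, st0.comap φ.toMonoidHom = K := by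
  classical
  have hc : Nat.card (L6 ⧸ K) = 6 := hK
  have hKt : K ≠ ⊤ := by rintro rfl; rw [Subgroup.index_top] at hK; omega
  have : Fintype (L6 ⧸ K) := Fintype.ofFinite _
  let β0 : (L6 ⧸ K) ≃ Fin 6 := Finite.equivFinOfCardEq hc
  let β : (L6 ⧸ K) ≃ Fin 6 := β0.trans (Equiv.swap (β0 ((1 : L6) : L6 ⧸ K)) 0)
  have hβ : β ((1 : L6) : L6 ⧸ K) = 0 := by
    show Equiv.swap (β0 ((1 : L6) : L6 ⧸ K)) 0 (β0 ((1 : L6) : L6 ⧸ K)) = 0
    exact Equiv.swap_apply_left _ _
  let ρ : L6 →* Perm (Fin 6) := β.permCongrHom.toMonoidHom.comp (MulAction.toPermHom L6 (L6 ⧸ K))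
  have hρ : ∀ g, ρ g 0 = 0 ↔ g ∈ K := by
    intro g
    have h1 : ρ g 0 = β (g • β.symm 0) := rfl
    have h2 : β.symm 0 = ((1 : L6) : L6 ⧸ K) := by rw [← hβ, Equiv.symm_apply_apply]
    rw [h1, h2, ← hβ, EmbeddingLike.apply_eq_iff_eq, MulAction.Quotient.smul_coe, smul_eq_mul, mul_one, eq_comm, QuotientGroup.eq,
      inv_one, one_mul]
  have hinj : Function.Injective ρ := by
    rw [← MonoidHom.ker_eq_bot_iff]
    rcases (inferInstance : ρ.ker.Normal).eq_bot_or_eq_top with h | h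
    · exact h
    · exfalso
      apply hKt
      rw [eq_top_iff]
      intro g _
      rw [← hρ]
      have h1 : g ∈ ρ.ker := by rw [h]; exact Subgroup.mem_top g
      rw [MonoidHom.mem_ker.1 h1]
      rfl
  have hr : ρ.range.index = 2 := by
    have h1 := ρ.range.card_mul_index
    have h2 : Nat.card ρ.range = 360 := by
      rw [← card_L6]
      exact (Nat.card_congr (MonoidHom.ofInjective hinj).toEquiv).symm
    have h3 : Nat.card (Perm (Fin 6)) = 720 := by
      rw [Nat.card_perm, Nat.card_fin]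
      rfl
    rw [h2, h3] at h1
    omega
  have hA : ρ.range = alternatingGroup (Fin 6) := Perm.eq_alternatingGroup_of_index_eq_two hr
  let φ : MulAut L6 := (MonoidHom.ofInjective hinj).trans (MulEquiv.subgroupCongr hA)
  refine ⟨φ, ?_⟩
  ext g
  rw [Subgroup.mem_comap, ← hρ]
  rfl

theorem aut_count : 60 * (Set.range fun φ : MulAut L6 => st0.comap φ.toMonoidHom).ncard ≤ 1440 := by
  rw [← Cfsg.Agent.H824.ProdLem.card_aut_a6]
  refine fib _ 60 fun φ => ?_
  rw [← card_st0]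
  refine Nat.card_le_card_of_injective (fun s : st0 => ⟨MulAut.conj (s : L6) * φ, ?_⟩) ?_
  · ext g
    show (s : L6) * φ g * (s : L6)⁻¹ ∈ st0 ↔ φ g ∈ st0
    constructor
    · intro h
      have h1 := st0.mul_mem (st0.mul_mem (st0.inv_mem s.2) h) s.2
      have h2 : (s : L6)⁻¹ * ((s : L6) * φ g * (s : L6)⁻¹) * (s : L6) = φ g := by group
      rwa [h2] at h1
    · intro h
      exact st0.mul_mem (st0.mul_mem s.2 h) (st0.inv_mem s.2)
  · intro a b hab
    have h1 : MulAut.conj (a : L6) * φ = MulAut.conj (b : L6) * φ := congrArg Subtype.val hab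
    have h2 : MulAut.conj (a : L6) = MulAut.conj (b : L6) := mul_right_cancel h1
    apply Subtype.ext
    have h3 : (b : L6)⁻¹ * a ∈ center L6 := by
      rw [Subgroup.mem_center_iff]
      intro g
      have h4 := DFunLike.congr_fun h2 g
      rw [MulAut.conj_apply, MulAut.conj_apply] at h4
      calc g * ((b : L6)⁻¹ * a) = (b : L6)⁻¹ * ((b : L6) * g * (b : L6)⁻¹) * a := by group
        _ = (b : L6)⁻¹ * a * g := by rw [← h4]; group
    have h5 : center L6 = ⊥ := by
      rcases (inferInstance : (center L6).Normal).eq_bot_or_eq_top with h | h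
      · exact h
      · exfalso
        obtain ⟨x, hx⟩ : ∃ x : L6, x ^ 2 = 1 ∧ x ≠ 1 := by
          have h6 : 0 < Nat.card {u : L6 // u ^ 2 = 1 ∧ u ≠ 1} := by rw [card_two]; norm_num
          obtain ⟨⟨x, hx⟩⟩ := (Nat.card_pos_iff.1 h6).1
          exact ⟨x, hx⟩
        have h7 := (two_facts hx.1 hx.2).1
        have h8 : cen x = ⊤ := by
          rw [eq_top_iff]
          intro g _
          rw [mem_cen]
          have h9 : g ∈ center L6 := by rw [h]; exact Subgroup.mem_top g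
          exact Subgroup.mem_center_iff.1 h9 x
        have h9 := card_cen h7
        rw [h8, Subgroup.card_top, card_L6] at h9
        omega
    rw [h5, Subgroup.mem_bot, inv_mul_eq_one] at h3
    exact h3.symm

theorem non_mem {K : Subgroup L6} (hK : Adm K) (hs : ¬ Group.IsSolvable K) :
    K ∈ Set.range fun φ : MulAut L6 => st0.comap φ.toMonoidHom := by
  have h60 : 60 ≤ Nat.card K := by
    by_contra hc
    exact hs (Cfsg.Agent.BpAlt.solvable_of_lt _ K rfl (not_le.1 hc))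
  have h1 := Cfsg.Agent.BpAlt.card_le_factorial hK.ne_top
  rw [card_L6] at h1
  have h2 := K.card_mul_index
  rw [card_L6] at h2
  apply exists_aut
  have h3 : K.index ≤ 6 := by nlinarith
  have h4 : 5 < K.index := by
    by_contra hc
    have h5 := Nat.factorial_le (not_lt.1 hc)
    have h6 : Nat.factorial 5 = 120 := by decide
    omega
  omega

/-- **There are at most 311 admissible subgroups of `A₆`.** -/
theorem ncard_adm : {K : Subgroup L6 | Adm K}.ncard ≤ 311 := by
  set R2 := Set.range fun u : OP 2 => F (zpowers (u : L6)) with hR2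
  set R4 := Set.range fun q : OQ => F (zpowers (q.1 : L6) ⊔ zpowers q.2.1) with hR4
  set R3 := Set.range fun u : OP 3 => F (zpowers (u : L6)) with hR3
  set R9 := Set.range fun u : OP 3 => F (cen (u : L6)) with hR9
  set R5 := Set.range fun u : OP 5 => F (zpowers (u : L6)) with hR5
  set RN := Set.range fun φ : MulAut L6 => st0.comap φ.toMonoidHom with hRN
  have hsub : {K : Subgroup L6 | Adm K} ⊆ ((R2 ∪ R4) ∪ (R3 ∪ R9)) ∪ (R5 ∪ RN) := by
    intro K hK
    by_cases hs : Group.IsSolvable K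
    · obtain ⟨p, V, h⟩ := exists_el hK hs
      rcases h.p_cases with rfl | rfl | rfl
      · exact Or.inl (Or.inl (two_mem h))
      · exact Or.inl (Or.inr (three_mem h))
      · exact Or.inr (Or.inl (five_mem h))
    · exact Or.inr (Or.inr (non_mem hK hs))
  have h2 : R2.ncard ≤ 45 := by
    rw [← card_two, hR2, ← Set.image_univ]
    refine (Set.ncard_image_le (Set.toFinite _)).trans ?_
    rw [Set.ncard_univ]
  have h4 : 2 * R4.ncard ≤ 180 := oq_half
  have h3 : 2 * R3.ncard ≤ 80 := by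
    have := zp_half Nat.prime_three (by norm_num)
    rwa [card_three] at this
  have h9 : 2 * R9.ncard ≤ 80 := by
    have := cen_half Nat.prime_three (by norm_num)
    rwa [card_three] at this
  have h5 : 2 * R5.ncard ≤ 144 := by
    have := zp_half (p := 5) (by norm_num) (by norm_num)
    rwa [card_five] at this
  have hN : 60 * RN.ncard ≤ 1440 := aut_count
  have hu := Set.ncard_le_ncard hsub (Set.toFinite _)
  have e1 := Set.ncard_union_le (((R2 ∪ R4) ∪ (R3 ∪ R9))) (R5 ∪ RN)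
  have e2 := Set.ncard_union_le (R2 ∪ R4) (R3 ∪ R9)
  have e3 := Set.ncard_union_le R5 RN
  have e4 := Set.ncard_union_le R2 R4
  have e5 := Set.ncard_union_le R3 R9
  omega

end Cfsg.Agent.H998.EPA
end

-- part: H998/EPA/Six
section
/-!
# S3499-IV-L A6: extremely primitive groups whose point stabilisers have socle `A₆` (helper998)

The index is at most 2791 and the group has fewer than 4680000 elements.
-/

set_option autoImplicit false

namespace Cfsg.Agent.H998.EPA

open Subgroup Equiv Cfsg.Agent.H417.EP Cfsg.Agent.H419.EP Cfsg.Agent.H284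

theorem ncomm_L6 : ∃ a b : L6, a * b ≠ b * a := by
  obtain ⟨x, hx⟩ : ∃ x : L6, x ^ 2 = 1 ∧ x ≠ 1 := by
    have h6 : 0 < Nat.card {u : L6 // u ^ 2 = 1 ∧ u ≠ 1} := by rw [card_two]; norm_num
    obtain ⟨⟨x, hx⟩⟩ := (Nat.card_pos_iff.1 h6).1
    exact ⟨x, hx⟩
  by_contra hcon
  push Not at hcon
  have h7 := (two_facts hx.1 hx.2).1
  have h8 : cen x = ⊤ := by
    rw [eq_top_iff]
    intro g _
    exact hcon x g
  have h9 := card_cen h7
  rw [h8, Subgroup.card_top, card_L6] at h9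
  omega

theorem center_L6 {z : L6} (hz : ∀ x, z * x = x * z) : z = 1 := by
  have h1 : z ∈ center L6 := mem_center_iff.2 fun g => (hz g).symm
  rcases (inferInstance : (center L6).Normal).eq_bot_or_eq_top with h2 | h2
  · rwa [h2, mem_bot] at h1
  · exfalso
    obtain ⟨a, b, hab⟩ := ncomm_L6
    have h3 : b ∈ center L6 := by rw [h2]; exact mem_top b
    exact hab (mem_center_iff.1 h3 a)

/-- commutators of automorphisms of `A₆` are inner -/
theorem out_comm_L6 (α β : MulAut L6) : α * β * α⁻¹ * β⁻¹ ∈ (MulAut.conj : L6 →* MulAut L6).range := by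
  have hinj : Function.Injective (MulAut.conj : L6 →* MulAut L6) := by
    rw [injective_iff_map_eq_one]
    intro z hz
    apply center_L6
    intro x
    have h1 := DFunLike.congr_fun hz x
    rw [MulAut.conj_apply, MulAut.one_apply, mul_inv_eq_iff_eq_mul] at h1
    exact h1
  have h1 : Nat.card (MulAut.conj : L6 →* MulAut L6).range = 360 := by
    rw [← card_L6]
    exact (Nat.card_congr (MonoidHom.ofInjective hinj).toEquiv).symm
  have h2 : (MulAut.conj : L6 →* MulAut L6).range.index = 4 := by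
    have h3 := (MulAut.conj : L6 →* MulAut L6).range.card_mul_index
    rw [h1, Cfsg.Agent.H824.ProdLem.card_aut_a6] at h3
    omega
  have hn : (MulAut.conj : L6 →* MulAut L6).range.Normal := by
    refine ⟨?_⟩
    rintro _ ⟨z, rfl⟩ g
    refine ⟨g z, ?_⟩
    ext x
    rw [MulAut.conj_apply, MulAut.mul_apply, MulAut.mul_apply, MulAut.conj_apply, map_mul, map_mul, map_inv, MulAut.apply_inv_self]
  have hcard : Nat.card (MulAut L6 ⧸ (MulAut.conj : L6 →* MulAut L6).range) = 2 ^ 2 := h2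
  have := Fact.mk Nat.prime_two
  have hc := IsPGroup.isMulCommutative_of_card_eq_prime_sq hcard
  rw [← QuotientGroup.eq_one_iff]
  have h3 : ∀ a b : MulAut L6 ⧸ (MulAut.conj : L6 →* MulAut L6).range, a * b = b * a := fun a b => hc.is_comm.comm a b
  rw [QuotientGroup.mk_mul, QuotientGroup.mk_mul, QuotientGroup.mk_mul, QuotientGroup.mk_inv, QuotientGroup.mk_inv, h3 (α : _ ⧸ _) β,
    mul_inv_cancel_right, mul_inv_cancel]

variable {Q : Type*} [Group Q] [Finite Q] {A : Subgroup Q} {Γ : Subgroup (MulAut Q)}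

/-- **The point stabiliser has socle `A₆`: the index is at most 2791.** -/
theorem index_le_six (h : EPT A Γ) (hs : HasSoc A (alternatingGroup (Fin 6))) : A.index ≤ 2791 := by
  classical
  obtain ⟨N, hNA, hN, hcent, ⟨e⟩⟩ := hs
  have hi : Inv A Γ (emb e) := base_inv h hNA hN e hcent
  have hne : ∀ x, x ∉ A → tr (emb e) A x ≠ ⊥ := fun x hx => base_tr h hNA hN ncomm_L6 e hcent out_comm_L6 hx
  have h1 := weight_bound h hi hne (fun t => wt t) wt_one (c := 5) (W := 45) (m := 311)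
    (fun K hK => by
      have := five_le hK
      convert this) (by convert sum_wt) ncard_adm
  omega

omit [Finite Q] in
theorem card_le_six (hs : HasSoc A (alternatingGroup (Fin 6))) : Nat.card A ≤ 1440 := by
  have := hs.card_le
  rwa [Cfsg.Agent.H824.ProdLem.card_aut_a6] at this

/-- **The point stabiliser has socle `A₆`: `|Q| < 4680000`.** -/
theorem card_lt_six (h : EPT A Γ) (hs : HasSoc A (alternatingGroup (Fin 6))) : Nat.card Q < 4680000 := by
  have h1 := index_le_six h hs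
  have h2 := card_le_six hs
  have h3 := A.card_mul_index
  have h4 : Nat.card A * A.index ≤ 1440 * 2791 := Nat.mul_le_mul h2 h1
  omega

theorem a6_false (h : EPT A Γ) (hs : HasSoc A (alternatingGroup (Fin 6))) (hQ : 4680000 ≤ Nat.card Q) : False := by
  have := card_lt_six h hs
  omega

end Cfsg.Agent.H998.EPA
end

private theorem dce_7222aa4ca9ff : _root_.True := by
  try have : _root_.True := by simp only [_root_.Cfsg.Agent.H998.EPA.nI.eq_1]
  try have : _root_.True := by simp only [_root_.Cfsg.Agent.H998.EPA.nV.eq_1]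
  try have : _root_.True := by simp only [_root_.Cfsg.Agent.H998.EPA.nC.eq_1]
  exact _root_.True.intro
end

-- part: H417/EP/Eleven
section
set_option linter.all false
open scoped Cfsg.Agent.FastGrp

/-!
# Extremely primitive groups: point stabilisers with socle `PSL₂(11)` (helper417)

The index is at most 5274.
-/

set_option autoImplicit false

namespace Cfsg.Agent.H417.EP

open Subgroup
open Cfsg.Agent.H284
open Cfsg.Agent.H579.ElevenMat

/-- commutators are inner if the inner automorphisms have index at most 2 -/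
theorem out_comm {L : Type*} [Group L] [Finite L] (hc : ∀ z : L, (∀ x, z * x = x * z) → z = 1)
    (h : Nat.card (MulAut L) = 2 * Nat.card L) (α β : MulAut L) :
    α * β * α⁻¹ * β⁻¹ ∈ (MulAut.conj : L →* MulAut L).range := by
  have hinj : Function.Injective (MulAut.conj : L →* MulAut L) := by
    rw [injective_iff_map_eq_one]
    intro z hz
    apply hc
    intro x
    have h1 := DFunLike.congr_fun hz x
    rw [MulAut.conj_apply, MulAut.one_apply, mul_inv_eq_iff_eq_mul] at h1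
    exact h1
  have h1 : Nat.card (MulAut.conj : L →* MulAut L).range = Nat.card L :=
    (Nat.card_congr (MonoidHom.ofInjective hinj).toEquiv).symm
  have h2 : (MulAut.conj : L →* MulAut L).range.index = 2 := by
    have h3 := (MulAut.conj : L →* MulAut L).range.card_mul_index
    rw [h1, h, mul_comm 2] at h3
    exact Nat.eq_of_mul_eq_mul_left Nat.card_pos h3
  have h4 : α * β * α⁻¹ * β⁻¹ ∈ (MulAut.conj : L →* MulAut L).range ↔ _ := mul_mem_iff_of_index_two h2
  rw [h4, mul_mem_iff_of_index_two h2, mul_mem_iff_of_index_two h2, inv_mem_iff, inv_mem_iff]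
  tauto

namespace Eleven

theorem card_aut : Nat.card (MulAut PS) = 1320 := by
  rw [Cfsg.Agent.S0813.result 11 1 le_rfl (by rw [ZMod.card, pow_one]) 2 le_rfl (fun _ => by norm_num),
    Cfsg.Agent.S0265.result, Cfsg.Agent.ClassicalGeometry.PSL2Basic.card_SL2, ZMod.card]
  norm_num

variable {Q : Type*} [Group Q] [Finite Q] {A : Subgroup Q} {Γ : Subgroup (MulAut Q)}

/-- **The point stabiliser has socle `PSL₂(11)`: the index is at most 5274.** -/
theorem index_le (h : EPT A Γ) {N : Subgroup Q} (hNA : N ≤ A) (hN : ∀ a ∈ A, ∀ n ∈ N, a * n * a⁻¹ ∈ N)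
    (e : N ≃* Matrix.ProjectiveSpecialLinearGroup (Fin 2) (ZMod 11))
    (hcent : ∀ a ∈ A, (∀ n ∈ N, a * n = n * a) → a = 1) : A.index ≤ 5274 := by
  classical
  have hz : ∀ z : PS, (∀ x, z * x = x * z) → z = 1 := by
    intro z hz
    have h1 : z ∈ center PS := mem_center_iff.2 fun g => (hz g).symm
    rcases (inferInstance : (center PS).Normal).eq_bot_or_eq_top with h2 | h2
    · rwa [h2, mem_bot] at h1
    · exfalso
      obtain ⟨a, b, hab⟩ := ncomm
      have h3 : b ∈ center PS := by rw [h2]; exact mem_top b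
      exact hab (mem_center_iff.1 h3 a)
  have hOut := out_comm hz (by rw [card_aut, card_PS])
  have hi : Inv A Γ (emb e) := base_inv h hNA hN e hcent
  have hne : ∀ x, x ∉ A → tr (emb e) A x ≠ ⊥ := fun x hx => base_tr h hNA hN ncomm e hcent hOut hx
  have : Fintype PS := Fintype.ofFinite PS
  have h1 := weight_bound h hi hne (fun t => wt t) (if_pos rfl) (c := 88) (W := 1958) (m := 238)
    (fun K hK => by
      have := wt_adm hK
      convert this) (by convert sum_le) ncard_adm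
  omega

/-- the form of the plan -/
theorem index_le' (h : EPT A Γ) {N : Subgroup Q} (hNA : N ≤ A) (hN : ∀ a ∈ A, ∀ n ∈ N, a * n * a⁻¹ ∈ N)
    (e : N ≃* Matrix.ProjectiveSpecialLinearGroup (Fin 2) (ZMod 11))
    (hcent : ∀ a ∈ A, (∀ n ∈ N, a * n = n * a) → a = 1) : A.index ≤ 10000 :=
  (index_le h hNA hN e hcent).trans (by norm_num)

end Eleven

end Cfsg.Agent.H417.EP
end

-- part: H805/EPT/SporUB
section
set_option linter.all false
open scoped Cfsg.Agent.FastGrp

/-!
# S3499-V, sporadic socles: the uniform upper bound for `|Q|` (helper805)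

* `UBThree` : the bound with three generators (helper762, `H762/EPV/UBThree`), as a statement;
* `cardA` : `|A| = |L|` or `|A| = 2 |L|` when `|Out L| ≤ 2`;
* `card_le` : the upper bound for `|Q|`, from the factorisation of `|L|`.
-/

set_option autoImplicit false

namespace Cfsg.Agent.H805.EPT

open Subgroup Cfsg.Agent.H284 Cfsg.Agent.H419.EP Cfsg.Agent.H59.EP

/-- the index bound with three generators -/
def UBThree : Prop := ∀ {Q : Type} [Group Q] [Finite Q] {A : Subgroup Q} {Γ : Subgroup (MulAut Q)}, IsSimpleGroup Q →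
  EPT A Γ →
  (∀ K : Subgroup Q, K ≤ A → (∀ a ∈ A, ∀ k ∈ K, a * k * a⁻¹ ∈ K) → (∀ a ∈ K, ∀ b ∈ K, a * b = b * a) → K = ⊥) →
  ∀ l : List (ℕ × ℕ), (∀ x ∈ l, x.1.Prime ∧ 0 < x.2) → (l.map Prod.fst).Nodup →
  Nat.card A = (l.map fun x => x.1 ^ x.2).prod →
  A.index ≤ 1 + ((l.map fun x => gal x.1 x.2).sum * (Nat.card A / 6) + Nat.card A ^ 2 / 60 + Nat.card A ^ 3 / 3600) *
    (2 * (Nat.card A / 6))

/-- the numerical bound -/
def ubl (l : List (ℕ × ℕ)) : ℕ :=
  (l.map fun x => x.1 ^ x.2).prod *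
    (1 + ((l.map fun x => gal x.1 x.2).sum * ((l.map fun x => x.1 ^ x.2).prod / 6) +
      (l.map fun x => x.1 ^ x.2).prod ^ 2 / 60 + (l.map fun x => x.1 ^ x.2).prod ^ 3 / 3600) *
      (2 * ((l.map fun x => x.1 ^ x.2).prod / 6)))

theorem noncomm {L : Type*} [Group L] [Finite L] (hsim : IsSimpleGroup L) (hp : ¬ (Nat.card L).Prime) :
    ¬ ∀ a b : L, a * b = b * a := by
  intro hcomm
  apply hp
  letI : CommGroup L := { (inferInstance : Group L) with mul_comm := hcomm }
  exact IsSimpleGroup.prime_card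

theorem cardMulAut {L : Type*} [Group L] [Finite L] (hsim : IsSimpleGroup L) (hp : ¬ (Nat.card L).Prime)
    (hidx : (MulAut.conj : L →* MulAut L).range.index ≤ 2) :
    Nat.card (MulAut L) = Nat.card L ∨ Nat.card (MulAut L) = 2 * Nat.card L := by
  have hinj : Function.Injective (MulAut.conj : L →* MulAut L) := by
    rw [← MonoidHom.ker_eq_bot_iff]
    rcases (MulAut.conj : L →* MulAut L).normal_ker.eq_bot_or_eq_top with h1 | h1
    · exact h1
    · exfalso
      apply noncomm hsim hp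
      intro a b
      have h2 : a ∈ (MulAut.conj : L →* MulAut L).ker := by rw [h1]; trivial
      have h3 := DFunLike.congr_fun (MonoidHom.mem_ker.1 h2) b
      rw [MulAut.conj_apply, MulAut.one_apply, mul_inv_eq_iff_eq_mul] at h3
      exact h3
  have h4 := Subgroup.card_mul_index (MulAut.conj : L →* MulAut L).range
  rw [Nat.card_congr (MonoidHom.ofInjective hinj).toEquiv.symm] at h4
  have h5 : (MulAut.conj : L →* MulAut L).range.index ≠ 0 := Subgroup.index_ne_zero_of_finite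
  rw [← h4]
  rcases (by omega : (MulAut.conj : L →* MulAut L).range.index = 1 ∨ (MulAut.conj : L →* MulAut L).range.index = 2)
    with h | h
  · left; rw [h, mul_one]
  · right; rw [h, mul_comm]

/-- `|A| = |L|` or `2 |L|` -/
theorem cardA {Q : Type*} [Group Q] [Finite Q] {A : Subgroup Q} {L : Type*} [Group L] [Finite L]
    (hsoc : HasSoc A L) (hsim : IsSimpleGroup L) (hp : ¬ (Nat.card L).Prime)
    (hidx : (MulAut.conj : L →* MulAut L).range.index ≤ 2) : Nat.card A = Nat.card L ∨ Nat.card A = 2 * Nat.card L := by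
  obtain ⟨c, hc⟩ := hsoc.card_dvd
  have h1 := hsoc.card_le
  have h2 : Nat.card (MulAut L) ≤ 2 * Nat.card L := by
    rcases cardMulAut hsim hp hidx with h | h <;> omega
  have hL : 0 < Nat.card L := Nat.card_pos
  have hA : 0 < Nat.card A := Nat.card_pos
  have h3 : c ≤ 2 := by
    by_contra hc3
    have h4 : Nat.card L * 3 ≤ Nat.card L * c := Nat.mul_le_mul_left _ (by omega)
    omega
  interval_cases c
  · omega
  · left; omega
  · right; omega

variable {Q : Type} [Group Q] [Finite Q] {A : Subgroup Q} {Γ : Subgroup (MulAut Q)}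

theorem card_le_of_list (hub : UBThree) (hs : IsSimpleGroup Q) (h : EPT A Γ)
    (hab : ∀ K : Subgroup Q, K ≤ A → (∀ a ∈ A, ∀ k ∈ K, a * k * a⁻¹ ∈ K) → (∀ a ∈ K, ∀ b ∈ K, a * b = b * a) → K = ⊥)
    (l : List (ℕ × ℕ)) (h1 : ∀ x ∈ l, x.1.Prime ∧ 0 < x.2) (h2 : (l.map Prod.fst).Nodup)
    (hc : Nat.card A = (l.map fun x => x.1 ^ x.2).prod) : Nat.card Q ≤ ubl l := by
  have h3 := hub hs h hab l h1 h2 hc
  rw [← A.card_mul_index]
  rw [hc] at h3 ⊢
  exact Nat.mul_le_mul_left _ h3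

/-- **The upper bound**, socle `L` with `|Out L| ≤ 2`, `|L| = 2 ^ a * ∏ p ^ e`. -/
theorem card_le (hub : UBThree) (hs : IsSimpleGroup Q) (h : EPT A Γ) {L : Type*} [Group L] [Finite L]
    (hsoc : HasSoc A L) (hsim : IsSimpleGroup L) (hp : ¬ (Nat.card L).Prime)
    (hidx : (MulAut.conj : L →* MulAut L).range.index ≤ 2) (a : ℕ) (l : List (ℕ × ℕ))
    (hN : Nat.card L = 2 ^ a * (l.map fun x => x.1 ^ x.2).prod) (ha : 0 < a)
    (h1 : ∀ x ∈ l, x.1.Prime ∧ 0 < x.2) (h2 : (2 :: l.map Prod.fst).Nodup)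
    {B : ℕ} (hB1 : ubl ((2, a) :: l) ≤ B) (hB2 : ubl ((2, a + 1) :: l) ≤ B) : Nat.card Q ≤ B := by
  have hab : ∀ K : Subgroup Q, K ≤ A → (∀ a ∈ A, ∀ k ∈ K, a * k * a⁻¹ ∈ K) → (∀ a ∈ K, ∀ b ∈ K, a * b = b * a) →
      K = ⊥ := fun K k1 k2 k3 => hsoc.no_abelian hsim (noncomm hsim hp) k1 k2 k3
  rcases cardA hsoc hsim hp hidx with hA | hA
  · refine (card_le_of_list hub hs h hab ((2, a) :: l) ?_ ?_ ?_).trans hB1
    · intro x hx
      rcases List.mem_cons.1 hx with rfl | hx
      · exact ⟨Nat.prime_two, ha⟩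
      · exact h1 x hx
    · rw [List.map_cons]
      exact h2
    · rw [List.map_cons, List.prod_cons, hA, hN]
  · refine (card_le_of_list hub hs h hab ((2, a + 1) :: l) ?_ ?_ ?_).trans hB2
    · intro x hx
      rcases List.mem_cons.1 hx with rfl | hx
      · exact ⟨Nat.prime_two, by omega⟩
      · exact h1 x hx
    · rw [List.map_cons]
      exact h2
    · rw [List.map_cons, List.prod_cons, hA, hN, pow_succ]
      ring

end Cfsg.Agent.H805.EPT
end
end
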